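import Groth.Agent.LinkH2.Ring
import Groth.Agent.Hilb24.Dim
import Groth.Agent.CommAlg6.PushStab
import Groth.Agent.CAlgH3.PTilde
import Groth.Agent.Liaison28.Double

/-!
# Additivity of degrees under linkage
-/

set_option autoImplicit false
set_option linter.all false
set_option maxHeartbeats 1000000

universe u

open IsLocalRing

namespace Groth.Agent.LinkH2

section Lattice

variable {R : Type u} [CommRing R]

/-- In a ring with the double colon property modulo `C`, lengths are additive under linkage. -/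
theorem length_linked {C I : Ideal R} (hCI : C ≤ I)
    (hd : ∀ K : Ideal R, C ≤ K → C.colon ((C.colon (K : Set R) : Ideal R) : Set R) = K) :
    Module.length R (R ⧸ C) = Module.length R (R ⧸ I) + Module.length R (R ⧸ C.colon (I : Set R)) := by
  let J : Ideal R := C.colon (I : Set R)
  let K' : Submodule R (R ⧸ C) := Submodule.map C.mkQ I
  let g : (R ⧸ C) →ₗ[R] R ⧸ I := Submodule.factor hCI
  have hg : Function.Surjective g := fun y => by
    obtain ⟨x, rfl⟩ := Submodule.Quotient.mk_surjective I y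
    exact ⟨Submodule.Quotient.mk x, rfl⟩
  have hex : Function.Exact K'.subtype g := by
    intro y
    obtain ⟨x, rfl⟩ := Submodule.Quotient.mk_surjective C y
    show Submodule.Quotient.mk x = (0 : R ⧸ I) ↔ _
    rw [Submodule.Quotient.mk_eq_zero]
    refine ⟨fun hx => ⟨⟨_, Submodule.mem_map_of_mem hx⟩, rfl⟩, ?_⟩
    rintro ⟨⟨z, hz⟩, rfl⟩
    obtain ⟨w, hw, hwx⟩ := Submodule.mem_map.1 hz
    have := (Submodule.Quotient.eq C).1 hwx
    simpa using sub_mem hw (hCI this)
  have hanti : ∀ {K L : Ideal R}, K ≤ L → C.colon (L : Set R) ≤ C.colon (K : Set R) := fun {K L} h x hx => by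
    rw [Submodule.mem_colon] at hx ⊢
    exact fun i hi => hx i (h hi)
  have hJI : C.colon (J : Set R) = I := hd I hCI
  have hcomap : ∀ L : Submodule R (R ⧸ C), C ≤ L.comap C.mkQ := fun L x hx => by
    rw [Submodule.mem_comap, Submodule.mkQ_apply, (Submodule.Quotient.mk_eq_zero C).2 hx]
    exact L.zero_mem
  have hmapcomap : ∀ K : Ideal R, C ≤ K → Submodule.comap C.mkQ (Submodule.map C.mkQ K) = K := fun K hK => by
    rw [Submodule.comap_map_mkQ, sup_eq_right.2 hK]
  have hcomapmap : ∀ L : Submodule R (R ⧸ C), (L.comap C.mkQ).map C.mkQ = L := fun L =>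
    Submodule.map_comap_eq_of_surjective (Submodule.mkQ_surjective C) L
  let e : Set.Iic K' ≃o (Set.Ici J)ᵒᵈ :=
    { toFun := fun L => OrderDual.toDual ⟨C.colon ((L.1.comap C.mkQ : Ideal R) : Set R),
        hanti ((Submodule.comap_mono L.2).trans (hmapcomap I hCI).le)⟩
      invFun := fun L => ⟨Submodule.map C.mkQ (C.colon ((OrderDual.ofDual L).1 : Set R)),
        Submodule.map_mono ((hanti (OrderDual.ofDual L).2).trans hJI.le)⟩
      left_inv := fun L => Subtype.ext (by
        show Submodule.map C.mkQ (C.colon ((C.colon ((L.1.comap C.mkQ : Ideal R) : Set R) : Ideal R) : Set R)) = L.1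
        rw [hd _ (hcomap L.1), hcomapmap])
      right_inv := fun L => by
        apply OrderDual.ofDual.injective
        apply Subtype.ext
        show C.colon ((Submodule.comap C.mkQ (Submodule.map C.mkQ (C.colon ((OrderDual.ofDual L).1 : Set R))) : Ideal R) : Set R) = _
        rw [hmapcomap _ (le_colon_gen C _), hd _ ((le_colon_gen C I).trans (OrderDual.ofDual L).2)]
      map_rel_iff' := fun {L M} => by
        show C.colon ((M.1.comap C.mkQ : Ideal R) : Set R) ≤ C.colon ((L.1.comap C.mkQ : Ideal R) : Set R) ↔ L.1 ≤ M.1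
        refine ⟨fun h => ?_, fun h => hanti (Submodule.comap_mono h)⟩
        rw [← hcomapmap L.1, ← hcomapmap M.1]
        refine Submodule.map_mono ?_
        rw [← hd _ (hcomap L.1), ← hd _ (hcomap M.1)]
        exact hanti h }
  have hKlen : Module.length R K' = Module.length R (R ⧸ J) := by
    apply WithBot.coe_injective
    rw [Module.coe_length, Module.coe_length, Order.krullDim_eq_of_orderIso (Submodule.mapIic K'),
      Order.krullDim_eq_of_orderIso e, Order.krullDim_orderDual,
      ← Order.krullDim_eq_of_orderIso (Submodule.comapMkQRelIso J)]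
  rw [Module.length_eq_add_of_exact K'.subtype g K'.injective_subtype hg hex, hKlen, add_comm]

end Lattice

variable {K : Type u} [Field K] {n : ℕ}

local notation "S" => MvPolynomial (Fin (n + 1)) K
local notation "𝒜" => CohB1.polyGrading n K

theorem isHomogeneous_poly {I : Ideal S} (hI : I.IsHomogeneous (GrSyz.stdGr K (Fin (n + 1)))) :
    I.IsHomogeneous 𝒜 := by
  obtain ⟨s, hs⟩ := (Ideal.IsHomogeneous.iff_exists _ _).1 hI
  rw [hs]
  refine Ideal.homogeneous_span 𝒜 _ ?_
  rintro _ ⟨⟨x, i, hx⟩, -, rfl⟩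
  rcases lt_or_ge i 0 with hi | hi
  · exact ⟨0, (GrLib.stdGr_eq_zero_of_neg K (n + 1) i hi x hx).symm ▸ zero_mem (𝒜 0)⟩
  · obtain ⟨j, rfl⟩ := Int.eq_ofNat_of_zero_le hi
    exact ⟨j, (CAlgH3.PTilde.isHomogeneous_iff_stdGr j x).2 hx⟩

theorem hfun_eq_finrank (I : Ideal S) (j : ℕ) :
    (Module.finrank K ↥(Submodule.map (Ideal.Quotient.mkₐ K I).toLinearMap (GrSyz.stdGr K (Fin (n + 1)) (j : ℤ))) : ℚ)
      = Hilb24.hfun I j := by
  have he : GrSyz.stdGr K (Fin (n + 1)) (j : ℤ) = 𝒜 j :=
    Submodule.ext fun p => (CAlgH3.PTilde.isHomogeneous_iff_stdGr j p).symm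
  rw [he, Hilb24.hfun, eq_sub_iff_add_eq]
  let f := ((Ideal.Quotient.mkₐ K I).toLinearMap).domRestrict (𝒜 j)
  have h1 := f.finrank_range_add_finrank_ker
  have h2 : LinearMap.range f = Submodule.map (Ideal.Quotient.mkₐ K I).toLinearMap (𝒜 j) := by
    rw [LinearMap.range_domRestrict]
  have h3 : (LinearMap.ker f).map (𝒜 j).subtype = Submodule.restrictScalars K I ⊓ 𝒜 j := by
    rw [LinearMap.ker_domRestrict, Submodule.map_comap_subtype, inf_comm]
    congr 1
    ext x
    simp [Ideal.Quotient.eq_zero_iff_mem]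
  rw [LinearEquiv.finrank_eq (Submodule.equivSubtypeMap (𝒜 j) (LinearMap.ker f)), h3, h2] at h1
  exact_mod_cast h1

theorem len_eq {R : Type u} [CommRing R] (q : Ideal R) [q.IsPrime] (I : Ideal R) :
    Hilb24.len q I = Module.length (Localization.AtPrime q)
      (Localization.AtPrime q ⧸ I.map (algebraMap R (Localization.AtPrime q))) :=
  LinearEquiv.length_eq ((localizedQuotientEquiv q.primeCompl I).symm.trans
    (Submodule.quotEquivOfEq _ _ (Ideal.localized'_eq_map (Localization.AtPrime q) q.primeCompl I)))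

/-- Multiplicities are additive under linkage at a minimal prime of `c`. -/
theorem len_linked {c I : Ideal S} [_root_.LocCoh.IsGorensteinRing (S ⧸ c)] (hcI : c ≤ I)
    (q : Ideal S) [q.IsPrime] (hq : q ∈ c.minimalPrimes) :
    Hilb24.len q c = Hilb24.len q I + Hilb24.len q (c.colon (I : Set S)) := by
  set g := algebraMap S (Localization.AtPrime q)
  rw [len_eq, len_eq, len_eq,
    @CommAlg6.PushCompl.map_colon _ (Localization.AtPrime q) _ _ _ _ (IsLocalization.flat _ q.primeCompl) c I]
  refine length_linked (Ideal.map_mono hcI) fun L hL => ?_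
  let C := c.map g
  obtain ⟨Q, hQ, ⟨e⟩⟩ := nonempty_quot_local c q hq.le
  haveI := _root_.LocCoh.IsGorensteinRing.isGorensteinLocalRing_localization (A := S ⧸ c) Q
  haveI : _root_.LocCoh.IsGorensteinLocalRing (Localization.AtPrime q ⧸ C) :=
    SegreDim.gorensteinLocal_of_ringEquiv (R := Localization.AtPrime Q) e.symm
  have hrad : maximalIdeal (Localization.AtPrime q) ≤ C.radical := by
    rw [Ideal.radical_eq_sInf]
    refine le_sInf ?_
    rintro P ⟨hP, hPprime⟩
    have h1 : P.comap g ≤ q := (IsLocalization.AtPrime.orderIsoOfPrime (Localization.AtPrime q) q ⟨P, hPprime⟩).2.2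
    have h2 : q ≤ P.comap g := hq.2 ⟨Ideal.comap_isPrime g P, Ideal.map_le_iff_le_comap.1 hP⟩ h1
    rw [← Localization.AtPrime.map_eq_maximalIdeal]
    exact Ideal.map_le_iff_le_comap.2 h2
  have hd : ringKrullDim (Localization.AtPrime q ⧸ C) = 0 :=
    le_antisymm (dim_le_zero C hrad) ringKrullDim_nonneg_of_nontrivial
  let mk := Ideal.Quotient.mk C
  have hann : Submodule.annihilator (Submodule.annihilator (L.map mk)) = L.map mk := by
    refine le_antisymm (fun x hx => Liaison28.mem_of_annihilator_annihilator hd (L.map mk) (x := x) fun b hb => ?_) fun x hx => ?_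
    · exact Submodule.mem_annihilator.1 hx b (Submodule.mem_annihilator.2 hb)
    · refine Submodule.mem_annihilator.2 fun b hb => ?_
      exact (mul_comm x b).trans (Submodule.mem_annihilator.1 hb x hx)
  rw [annihilator_map_mk, annihilator_map_mk] at hann
  have h := congrArg (Ideal.comap mk) hann
  rwa [Ideal.comap_map_of_surjective _ Ideal.Quotient.mk_surjective,
    Ideal.comap_map_of_surjective _ Ideal.Quotient.mk_surjective, ← RingHom.ker_eq_comap_bot, Ideal.mk_ker,
    sup_eq_left.2 (le_colon_gen C _), sup_eq_left.2 hL] at h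

theorem cdim_le_of_height {c : Ideal S} {r : ℕ} (hc : c.height = r) {q : Ideal S} (hq : q.IsPrime)
    (hcq : c ≤ q) : DimLib.PN.cdim q ≤ n + 1 - r := by
  have e := DimLib.height_add_ringKrullDim_quotient (k := K) q
  rw [DimLib.PN.cdim_eq hq, MvPolynomial.ringKrullDim_of_isNoetherianRing, ringKrullDim_eq_zero_of_field,
    zero_add, Nat.card_fin] at e
  have hh : (r : ℕ∞) ≤ q.height := hc ▸ Ideal.height_mono hcq
  generalize q.height = a at e hh
  induction a using ENat.recTopCoe with
  | top =>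
    change ((⊤ : ℕ∞) : WithBot ℕ∞) + ((DimLib.PN.cdim q : ℕ∞) : WithBot ℕ∞) = _ at e
    rw [← WithBot.coe_add, top_add] at e
    exact absurd e.symm (by exact_mod_cast ENat.coe_ne_top (n + 1))
  | coe a =>
    have e4 : a + DimLib.PN.cdim q = n + 1 := by exact_mod_cast e
    have : r ≤ a := by exact_mod_cast hh
    omega

/-- Top coefficients of Hilbert polynomials are additive under linkage. -/
theorem coeff_linked {c I : Ideal S} (hc : c.IsHomogeneous 𝒜) (hI : I.IsHomogeneous 𝒜)
    (hJ : (c.colon (I : Set S)).IsHomogeneous 𝒜) [_root_.LocCoh.IsGorensteinRing (S ⧸ c)] {r : ℕ}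
    (hr : c.height = r) (hcI : c ≤ I) {pc pI pJ : Polynomial ℚ} (hpc : Hilb24.IsHilb c pc)
    (hpI : Hilb24.IsHilb I pI) (hpJ : Hilb24.IsHilb (c.colon (I : Set S)) pJ) :
    pJ.coeff (n + 1 - r - 1) = pc.coeff (n + 1 - r - 1) - pI.coeff (n + 1 - r - 1) := by
  set D := n + 1 - r
  have hcJ : c ≤ c.colon (I : Set S) := le_colon_gen c I
  have hs : ∀ q : Ideal S, q.IsPrime → q.IsHomogeneous 𝒜 → c ≤ q → DimLib.PN.cdim q ≤ D :=
    fun q hq _ hle => cdim_le_of_height hr hq hle
  obtain ⟨T, hT, hall, hmin⟩ := Hilb24.exists_top_finset c hc D hs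
  obtain ⟨Pc, hPc, -, hc'⟩ := Hilb24.formula hc D hs
  obtain ⟨PI, hPI, -, hI'⟩ := Hilb24.formula hI D fun q h1 h2 h3 => hs q h1 h2 (hcI.trans h3)
  obtain ⟨PJ, hPJ, -, hJ'⟩ := Hilb24.formula hJ D fun q h1 h2 h3 => hs q h1 h2 (hcJ.trans h3)
  obtain rfl := hPc.unique hpc
  obtain rfl := hPI.unique hpI
  obtain rfl := hPJ.unique hpJ
  obtain ⟨hfc, ec⟩ := hc' T hT hall
  obtain ⟨hfI, eI⟩ := hI' T hT fun q h1 h2 h3 => hall q h1 (hcI.trans h2) h3
  obtain ⟨hfJ, eJ⟩ := hJ' T hT fun q h1 h2 h3 => hall q h1 (hcJ.trans h2) h3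
  rw [ec, eI, eJ, ← Finset.sum_sub_distrib]
  refine Finset.sum_congr rfl fun q hq => ?_
  rw [len_linked hcI q.asIdeal (hmin q hq), ENat.toNat_add (hfI q hq) (hfJ q hq)]
  push_cast
  ring

theorem isHomogeneous_colon {c I : Ideal S} (hc : c.IsHomogeneous 𝒜) (hI : I.IsHomogeneous 𝒜) :
    (c.colon (I : Set S)).IsHomogeneous 𝒜 := by
  classical
  obtain ⟨s, hs⟩ := (Ideal.IsHomogeneous.iff_exists _ _).1 hI
  intro m x hx
  rw [Submodule.mem_colon] at hx ⊢
  intro i hi
  have hle : I ≤ c.colon {(DirectSum.decompose 𝒜 x m : S)} := by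
    rw [hs]
    refine Ideal.span_le.2 ?_
    rintro _ ⟨⟨a, e, ha⟩, has, rfl⟩
    have hax : x • a ∈ c := hx a (hs ▸ Ideal.subset_span ⟨⟨a, e, ha⟩, has, rfl⟩)
    rw [smul_eq_mul, mul_comm] at hax
    have := (Hilb24.isHomogeneous_col hc ha) m (Hilb24.mem_col.2 hax)
    rw [Hilb24.mem_col] at this
    rw [SetLike.mem_coe, Submodule.mem_colon_singleton, smul_eq_mul]
    exact this
  have := hle hi
  rw [Submodule.mem_colon_singleton, smul_eq_mul, mul_comm] at this
  exact this

end Groth.Agent.LinkH2
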