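import Groth.Agent.Liaison28.Unmixed
import Groth.Agent.LocCoh.Local
import Groth.Agent.LocCoh.DepthLocal
import Groth.Agent.GrLib.Std
import Groth.Agent.CAlgH3.GrMinimalTor

/-!
# Local cohomology of basic double links
-/

set_option autoImplicit false
set_option linter.all false

universe u

open MvPolynomial
open Groth.Agent.LocCoh

namespace Groth.Agent.LinkH2

theorem connecting_bijective {R : Type u} [CommRing R] {m : Ideal R} {M N P : Type u} [AddCommGroup M]
    [Module R M] [AddCommGroup N] [Module R N] [AddCommGroup P] [Module R P] {f : M →ₗ[R] N} {g : N →ₗ[R] P}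
    (hf : Function.Injective f) (hg : Function.Surjective g) (hfg : Function.Exact f g) (i : ℕ)
    [Subsingleton (_root_.LocCoh.H m i N)] [Subsingleton (_root_.LocCoh.H m (i + 1) N)] :
    Function.Bijective (connecting m hf hg hfg i) :=
  ⟨(injective_iff_map_eq_zero _).2 fun x hx => by
      obtain ⟨y, rfl⟩ := (Hmap_connecting_exact hf hg hfg i x).1 hx
      rw [Subsingleton.elim y 0, map_zero],
    fun y => (connecting_Hmap_exact hf hg hfg i y).1 (Subsingleton.elim _ _)⟩

/-- The two short exact sequences of a basic double link give the same local cohomology. -/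
theorem nonempty_H_doubleLink {R : Type u} [CommRing R] (m J I : Ideal R) (hJI : J ≤ I) (f : R)
    (hJf : ∀ x, f * x ∈ J → x ∈ J) (i : ℕ)
    [Subsingleton (_root_.LocCoh.H m i (R ⧸ J))] [Subsingleton (_root_.LocCoh.H m (i + 1) (R ⧸ J))] :
    Nonempty (_root_.LocCoh.H m i (R ⧸ (J ⊔ Ideal.span {f} * I)) ≃ₗ[R] _root_.LocCoh.H m i (R ⧸ I)) := by
  let K : Submodule R (R ⧸ J) := Submodule.map J.mkQ I
  let T : Ideal R := J ⊔ Ideal.span {f} * I
  let α : K →ₗ[R] R ⧸ J := f • K.subtype
  have hα : Function.Injective α := by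
    rw [injective_iff_map_eq_zero]
    rintro ⟨z, hz⟩ h
    obtain ⟨x, hx, rfl⟩ := Submodule.mem_map.1 hz
    change f • Submodule.Quotient.mk x = (0 : R ⧸ J) at h
    rw [← Submodule.Quotient.mk_smul, Submodule.Quotient.mk_eq_zero] at h
    exact Subtype.ext ((Submodule.Quotient.mk_eq_zero J).2 (hJf x h))
  let gT : (R ⧸ J) →ₗ[R] R ⧸ T := Submodule.factor (le_sup_left : J ≤ T)
  let gI : (R ⧸ J) →ₗ[R] R ⧸ I := Submodule.factor hJI
  have hgT : Function.Surjective gT := fun y => by
    obtain ⟨x, rfl⟩ := Submodule.Quotient.mk_surjective T y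
    exact ⟨Submodule.Quotient.mk x, rfl⟩
  have hgI : Function.Surjective gI := fun y => by
    obtain ⟨x, rfl⟩ := Submodule.Quotient.mk_surjective I y
    exact ⟨Submodule.Quotient.mk x, rfl⟩
  have hexI : Function.Exact K.subtype gI := by
    intro y
    obtain ⟨x, rfl⟩ := Submodule.Quotient.mk_surjective J y
    show Submodule.Quotient.mk x = (0 : R ⧸ I) ↔ _
    rw [Submodule.Quotient.mk_eq_zero]
    refine ⟨fun hx => ⟨⟨_, Submodule.mem_map_of_mem hx⟩, rfl⟩, ?_⟩
    rintro ⟨⟨z, hz⟩, rfl⟩
    obtain ⟨w, hw, hwx⟩ := Submodule.mem_map.1 hz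
    have := (Submodule.Quotient.eq J).1 hwx
    simpa using sub_mem hw (hJI this)
  have hexT : Function.Exact α gT := by
    intro y
    obtain ⟨x, rfl⟩ := Submodule.Quotient.mk_surjective J y
    show Submodule.Quotient.mk x = (0 : R ⧸ T) ↔ _
    rw [Submodule.Quotient.mk_eq_zero]
    constructor
    · intro hx
      obtain ⟨j, hj, z, hz, rfl⟩ := Submodule.mem_sup.1 hx
      obtain ⟨w, hw, rfl⟩ := Ideal.mem_span_singleton_mul.1 hz
      refine ⟨⟨_, Submodule.mem_map_of_mem hw⟩, ?_⟩
      show f • (Submodule.Quotient.mk w : R ⧸ J) = Submodule.Quotient.mk (j + f * w)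
      rw [← Submodule.Quotient.mk_smul, Submodule.Quotient.eq, smul_eq_mul]
      simpa using J.neg_mem hj
    · rintro ⟨⟨z, hz⟩, hzx⟩
      obtain ⟨w, hw, rfl⟩ := Submodule.mem_map.1 hz
      change f • (Submodule.Quotient.mk w : R ⧸ J) = Submodule.Quotient.mk x at hzx
      rw [← Submodule.Quotient.mk_smul, Submodule.Quotient.eq, smul_eq_mul] at hzx
      rw [show x = -(f * w - x) + f * w by ring]
      exact add_mem (Ideal.mem_sup_left (J.neg_mem hzx))
        (Ideal.mem_sup_right (Ideal.mem_span_singleton_mul.2 ⟨w, hw, rfl⟩))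
  exact ⟨(LinearEquiv.ofBijective _ (connecting_bijective (m := m) hα hgT hexT i)).trans
    (LinearEquiv.ofBijective _ (connecting_bijective (m := m) K.injective_subtype hgI hexI i)).symm⟩

variable {K : Type u} [Field K] {n : ℕ}

local notation "S" => MvPolynomial (Fin (n + 1)) K

/-- Local cohomology of a Cohen–Macaulay quotient vanishes below its dimension. -/
theorem subsingleton_H_quot {J : Ideal S} (hJ : J.IsHomogeneous (GrSyz.stdGr K (Fin (n + 1))))
    [_root_.LocCoh.IsCohenMacaulayRing (S ⧸ J)] {h : ℕ} (hJh : J.height = h)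
    (hJm : J ≤ (GrSyz.irrel (GrSyz.stdGr K (Fin (n + 1)))).toIdeal) (i : ℕ) (hi : i + h < n + 1) :
    Subsingleton (_root_.LocCoh.H (GrSyz.irrel (GrSyz.stdGr K (Fin (n + 1)))).toIdeal i (S ⧸ J)) := by
  set m := (GrSyz.irrel (GrSyz.stdGr K (Fin (n + 1)))).toIdeal with hm
  haveI hmax : m.IsMaximal := CAlgH3.GrMinimal.irrel_isMaximal K (n + 1)
  refine (natCast_le_idealDepth_iff_H m (S ⧸ J) (n + 1 - h)).1 ?_ i (by omega)
  have hne : m.map (algebraMap S (S ⧸ J)) ≠ ⊤ := by
    intro htop
    have := congrArg (Ideal.comap (Ideal.Quotient.mk J)) htop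
    rw [Ideal.Quotient.algebraMap_eq, Ideal.comap_map_of_surjective _ Ideal.Quotient.mk_surjective,
      ← RingHom.ker_eq_comap_bot, Ideal.mk_ker, Ideal.comap_top, sup_eq_left.2 hJm] at this
    exact hmax.ne_top this
  rw [← @CAlgH3.idealDepth_of_surjective _ _ (S ⧸ J) _ _ Ideal.Quotient.mk_surjective m (S ⧸ J) _ _ _ _,
    (LocCoh.isCohenMacaulayRing_iff_idealDepth _).1 inferInstance _ hne, Ideal.Quotient.algebraMap_eq]
  obtain ⟨q, hq, hqm⟩ := Ideal.exists_minimalPrimes_le hJm
  haveI := hq.isPrime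
  have hqh : q.height = h := by
    rw [Liaison28.height_eq_height hJ (Liaison28.mem_associatedPrimes_of_minimal hq), hJh]
  haveI hP : (m.map (Ideal.Quotient.mk q)).IsPrime :=
    Ideal.map_isPrime_of_surjective Ideal.Quotient.mk_surjective (by rwa [Ideal.mk_ker])
  haveI hPJ : (m.map (Ideal.Quotient.mk J)).IsPrime :=
    Ideal.map_isPrime_of_surjective Ideal.Quotient.mk_surjective (by rwa [Ideal.mk_ker])
  have hle : (m.map (Ideal.Quotient.mk q)).height ≤ (m.map (Ideal.Quotient.mk J)).height := by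
    let φ : S ⧸ J →+* S ⧸ q := Ideal.Quotient.factor hq.le
    have hcomap : (m.map (Ideal.Quotient.mk q)).comap φ = m.map (Ideal.Quotient.mk J) := by
      ext z
      obtain ⟨z, rfl⟩ := Ideal.Quotient.mk_surjective z
      rw [Ideal.mem_comap, Ideal.Quotient.factor_mk, Ideal.mem_quotient_iff_mem hqm,
        Ideal.mem_quotient_iff_mem hJm]
    rw [← hcomap]
    refine ((⟨_, hP⟩ : PrimeSpectrum _).height_eq_orderHeight).le.trans
      (le_trans ?_ ((PrimeSpectrum.comap φ ⟨_, hP⟩).height_eq_orderHeight).ge)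
    exact Order.height_le_height_apply_of_strictMono (PrimeSpectrum.comap φ)
      (Monotone.strictMono_of_injective (fun a b h => Ideal.comap_mono h)
        (PrimeSpectrum.comap_injective_of_surjective φ (Ideal.Quotient.factor_surjective hq.le))) ⟨_, hP⟩
  refine le_trans ?_ hle
  have e1 := DimLib.height_add_ringKrullDim_quotient (k := K) (m.map (Ideal.Quotient.mk q))
  rw [ringKrullDim_eq_of_ringEquiv (DoubleQuot.quotQuotEquivQuotOfLE hqm)] at e1
  rw [ringKrullDim_eq_zero_of_isField ((Ideal.Quotient.maximal_ideal_iff_isField_quotient m).1 hmax), add_zero] at e1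
  have e3 := DimLib.height_add_ringKrullDim_quotient (k := K) q
  rw [MvPolynomial.ringKrullDim_of_isNoetherianRing, ringKrullDim_eq_zero_of_field, zero_add, Nat.card_fin,
    ← e1, hqh] at e3
  generalize (m.map (Ideal.Quotient.mk q)).height = a at e3
  induction a using ENat.recTopCoe with
  | top => exact le_top
  | coe a =>
    have e5 : h + a = n + 1 := by simpa [← WithBot.coe_add, ← Nat.cast_add] using! e3
    exact_mod_cast (show n + 1 - h ≤ a by omega)

end Groth.Agent.LinkH2
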