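import Groth.Agent.CommAlg4.GorensteinLink
import Groth.Agent.LocCoh.GorensteinCriteria
import Groth.Agent.SegreDim.GorEquiv

/-!
# Linkage in Gorenstein local rings

`G/ann I` is Cohen–Macaulay for linked ideals, `G/ann (f)` is Gorenstein, and `G/(I + J)` is
Gorenstein for geometrically linked ideals.
-/

set_option autoImplicit false
set_option linter.all false
set_option maxHeartbeats 1000000

universe u

open IsLocalRing RingTheory.Sequence
open Groth.Agent.CommAlg4 Groth.Agent.LocCoh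
open scoped Pointwise

namespace Groth.Agent.LinkH2

variable {A : Type u} [CommRing A] [_root_.LocCoh.IsGorensteinLocalRing A]

theorem depth_eq_dim :
    ringKrullDim A = ((_root_.LocCoh.depth A A : ℕ∞) : WithBot ℕ∞) := by
  haveI := isCohenMacaulayLocalRing_of_gorenstein (R := A)
  exact (CAlgH3.isCohenMacaulayLocalRing_iff_depth A).1 inferInstance

/-- An ideal killing a nonzero element does not lower the dimension. -/
theorem ringKrullDim_quot_eq (I : Ideal A) (z : A) (hz : z ≠ 0) (hI : ∀ i ∈ I, i * z = 0) :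
    ringKrullDim (A ⧸ I) = ringKrullDim A := by
  obtain ⟨p, hp, hle⟩ := exists_le_isAssociatedPrime_of_isNoetherianRing A z hz
  have hIp : I ≤ p := fun i hi => hle (by
    rw [Submodule.mem_colon_singleton, Submodule.mem_bot, smul_eq_mul]
    exact hI i hi)
  refine le_antisymm (ringKrullDim_quotient_le I) ?_
  calc ringKrullDim A = ((_root_.LocCoh.depth A A : ℕ∞) : WithBot ℕ∞) := depth_eq_dim
    _ ≤ ringKrullDim (A ⧸ p) := CAlgH3.depth_le_ringKrullDim_quotient hp
    _ ≤ ringKrullDim (A ⧸ I) :=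
      ringKrullDim_le_of_surjective (Ideal.Quotient.factor hIp) (Ideal.Quotient.factor_surjective hIp)

theorem dim_le_zero {R : Type u} [CommRing R] [IsLocalRing R] (J : Ideal R)
    (h : maximalIdeal R ≤ J.radical) : ringKrullDim (R ⧸ J) ≤ 0 := by
  rw [ringKrullDim_quotient]
  haveI : Subsingleton (PrimeSpectrum.zeroLocus (J : Set R)) := ⟨fun P Q => by
    have key : ∀ P : PrimeSpectrum.zeroLocus (J : Set R), P.1.asIdeal = maximalIdeal R := fun P =>
      le_antisymm (le_maximalIdeal P.1.isPrime.ne_top)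
        (h.trans (P.1.isPrime.radical_le_iff.2 P.2))
    exact Subtype.ext (PrimeSpectrum.ext ((key P).trans (key Q).symm))⟩
  exact Order.krullDim_nonpos_of_subsingleton

theorem cm_of_weaklyRegular {R : Type u} [CommRing R] [IsLocalRing R] [IsNoetherianRing R] {n : ℕ}
    (hdim : ringKrullDim R ≤ n) (rs : List R) (hlen : rs.length = n)
    (hmem : ∀ r ∈ rs, r ∈ maximalIdeal R) (hreg : IsWeaklyRegular R rs) :
    _root_.LocCoh.IsCohenMacaulayLocalRing R ∧ ringKrullDim R = n := by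
  have hlow := fun j (hj : j < n) =>
    subsingleton_H_of_weaklyRegular _ rs R hmem hreg j (hlen.symm ▸ hj)
  have hd : ((n : ℕ∞) : WithBot ℕ∞) ≤ ringKrullDim R :=
    ((WithBot.coe_le_coe.2 ((natCast_le_idealDepth_iff_H _ R n).2 hlow)).trans
      (CAlgH3.depth_le_supportDim (R := R) (M := R))).trans (Module.supportDim_le_ringKrullDim R R)
  have hn : ringKrullDim R = n := le_antisymm hdim hd
  exact ⟨isCohenMacaulay_of_subsingleton_H hn hlow, hn⟩

/-- Parameters adapted to an ideal with maximal Cohen–Macaulay quotient. -/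
theorem exists_params {n : ℕ} (hn : ringKrullDim A = n) (I : Ideal A)
    (hI : GorensteinLink.IsMaxCM I) :
    ∃ xs : List A, xs.length = n ∧ (∀ x ∈ xs, x ∈ maximalIdeal A) ∧ IsWeaklyRegular A xs ∧
      maximalIdeal A ≤ (Ideal.ofList xs).radical ∧
      Submodule.annihilator I ⊔ Ideal.ofList xs = Submodule.colon (Ideal.ofList xs) (I : Set A) ∧
      IsWeaklyRegular (A ⧸ I) xs ∧ IsWeaklyRegular (A ⧸ Submodule.annihilator I) xs := by
  haveI := isCohenMacaulayLocalRing_of_gorenstein (R := A)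
  obtain ⟨xs, hlen, hmem, hreg, hrad⟩ := exists_parameters_in_pow hn 1
  have hmem' : ∀ x ∈ xs, x ∈ maximalIdeal A := fun x hx => by simpa using hmem x hx
  obtain ⟨h1, -, h3, h4⟩ := GorensteinLink.main xs I hI hmem' hreg.toIsWeaklyRegular (by
    rw [hI.2, hn, hlen]
    calc ringKrullDim (A ⧸ (I ⊔ Ideal.ofList xs)) + (n : ℕ)
        ≤ 0 + (n : ℕ) := add_le_add (dim_le_zero _ (hrad.trans (Ideal.radical_mono le_sup_right))) le_rfl
      _ = _ := zero_add _)
  exact ⟨xs, hlen, hmem', hreg.toIsWeaklyRegular, hrad, h1, h3, h4⟩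

/-- Linked ideals: if `A/I` is maximal Cohen–Macaulay, so is `A/ann I`. -/
theorem cm_ann (I : Ideal A) (hI : GorensteinLink.IsMaxCM I) (hne : Submodule.annihilator I ≠ ⊤) :
    _root_.LocCoh.IsCohenMacaulayLocalRing (A ⧸ Submodule.annihilator I) ∧
      ringKrullDim (A ⧸ Submodule.annihilator I) = ringKrullDim A := by
  obtain ⟨n, hn⟩ := exists_dim_eq (R := A)
  obtain ⟨xs, hlen, hmem, -, -, -, -, h4⟩ := exists_params hn I hI
  haveI : Nontrivial (A ⧸ Submodule.annihilator I) := Ideal.Quotient.nontrivial_iff.2 hne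
  haveI : IsLocalRing (A ⧸ Submodule.annihilator I) := .of_surjective' _ Ideal.Quotient.mk_surjective
  rw [hn]
  refine cm_of_weaklyRegular ((ringKrullDim_quotient_le _).trans hn.le)
    (xs.map (algebraMap A (A ⧸ Submodule.annihilator I))) (by rw [List.length_map, hlen]) ?_
    ((isWeaklyRegular_map_algebraMap_iff _ _ xs).2 h4)
  intro r hr
  obtain ⟨a, ha, rfl⟩ := List.mem_map.1 hr
  rw [Ideal.Quotient.algebraMap_eq, ← map_maximalIdeal_of_surjective _ Ideal.Quotient.mk_surjective]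
  exact Ideal.mem_map_of_mem _ (hmem a ha)

/-- An element of the socle modulo an ideal with Artinian quotient. -/
theorem exists_socle {R : Type u} [CommRing R] [IsLocalRing R] [IsNoetherianRing R] (J : Ideal R)
    (hJ : J ≠ ⊤) (hrad : maximalIdeal R ≤ J.radical) :
    ∃ b : R, b ∉ J ∧ ∀ a ∈ maximalIdeal R, a * b ∈ J := by
  haveI : Nontrivial (R ⧸ J) := Ideal.Quotient.nontrivial_iff.2 hJ
  obtain ⟨P, hP⟩ := associatedPrimes.nonempty R (R ⧸ J)
  obtain ⟨hPp, y, hy⟩ := isAssociatedPrime_iff.1 hP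
  obtain ⟨b, rfl⟩ := Ideal.Quotient.mk_surjective y
  have hmem : ∀ r, r ∈ P ↔ r * b ∈ J := fun r => by
    rw [hy, Submodule.mem_colon_singleton, Submodule.mem_bot, ← Ideal.Quotient.eq_zero_iff_mem]
    exact Iff.rfl
  have hle : maximalIdeal R ≤ P := hrad.trans (hPp.radical_le_iff.2 fun j hj =>
    (hmem j).2 (J.mul_mem_right b hj))
  refine ⟨b, fun hb => hPp.ne_top ((Ideal.eq_top_iff_one P).2 ((hmem 1).2 (by rwa [one_mul]))),
    fun a ha => (hmem a).1 (hle ha)⟩

/-- `A/ann f` is Gorenstein when `A/(f)` is maximal Cohen–Macaulay. -/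
theorem gorenstein_ann_span (f : A) (hI : GorensteinLink.IsMaxCM (Ideal.span {f}))
    (hne : Submodule.annihilator (Ideal.span {f}) ≠ ⊤) :
    _root_.LocCoh.IsGorensteinLocalRing (A ⧸ Submodule.annihilator (Ideal.span {f})) := by
  obtain ⟨n, hn⟩ := exists_dim_eq (R := A)
  haveI := isCohenMacaulayLocalRing_of_gorenstein (R := A)
  obtain ⟨hcm, hdim⟩ := cm_ann _ hI hne
  obtain ⟨xs, hlen, hmem, hreg, hrad, h1, -, h4⟩ := exists_params hn _ hI
  set J := Submodule.annihilator (Ideal.span {f}) with hJdef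
  haveI : Nontrivial (A ⧸ J) := Ideal.Quotient.nontrivial_iff.2 hne
  haveI : IsLocalRing (A ⧸ J) := .of_surjective' _ Ideal.Quotient.mk_surjective
  haveI := hcm
  let mk := Ideal.Quotient.mk J
  let X := Ideal.ofList xs
  have hmem' : ∀ r ∈ xs.map mk, r ∈ maximalIdeal (A ⧸ J) := fun r hr => by
    obtain ⟨a, ha, rfl⟩ := List.mem_map.1 hr
    rw [← map_maximalIdeal_of_surjective mk Ideal.Quotient.mk_surjective]
    exact Ideal.mem_map_of_mem _ (hmem a ha)
  have hX : Ideal.ofList (xs.map mk) = X.map mk := (Ideal.map_ofList mk xs).symm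
  have hrad' : maximalIdeal (A ⧸ J) ≤ (Ideal.ofList (xs.map mk)).radical := by
    rw [hX, ← map_maximalIdeal_of_surjective mk Ideal.Quotient.mk_surjective]
    exact (Ideal.map_mono hrad).trans (Ideal.map_radical_le mk)
  have hmemX : ∀ w : A, mk w ∈ Ideal.ofList (xs.map mk) ↔ w * f ∈ X := fun w => by
    rw [hX, ← Ideal.mem_comap, Ideal.comap_map_of_surjective mk Ideal.Quotient.mk_surjective,
      ← RingHom.ker_eq_comap_bot, Ideal.mk_ker, sup_comm, h1, Submodule.mem_colon]
    refine ⟨fun h => h f (Ideal.mem_span_singleton_self f), fun h i hi => ?_⟩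
    obtain ⟨c, rfl⟩ := Ideal.mem_span_singleton'.1 hi
    rw [smul_eq_mul, mul_left_comm]
    exact X.mul_mem_left c h
  obtain ⟨e, heX, hme, hline⟩ : IsSocleLine X :=
    (nonempty_socle_iff hlen hmem hreg hrad).1 ((gorenstein_iff_socle hn).1 inferInstance)
  have hn' : ringKrullDim (A ⧸ J) = n := hdim.trans hn
  refine (gorenstein_iff_socle hn').2 ((nonempty_socle_iff (xs := xs.map mk)
    (by rw [List.length_map, hlen]) hmem' ((isWeaklyRegular_map_algebraMap_iff (A ⧸ J) (A ⧸ J) xs).2 h4) hrad').2 ?_)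
  have hne' : Ideal.ofList (xs.map mk) ≠ ⊤ :=
    ne_top_of_le_ne_top (maximalIdeal.isMaximal _).ne_top (Ideal.span_le.2 hmem')
  obtain ⟨z', hz', hmz'⟩ := exists_socle _ hne' hrad'
  obtain ⟨z, rfl⟩ := Ideal.Quotient.mk_surjective z'
  have hzf : z * f ∉ X := fun h => hz' ((hmemX z).2 h)
  have hmz : ∀ a ∈ maximalIdeal A, a * (z * f) ∈ X := fun a ha => by
    rw [← mul_assoc, ← hmemX, map_mul]
    refine hmz' _ ?_
    rw [← map_maximalIdeal_of_surjective mk Ideal.Quotient.mk_surjective]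
    exact Ideal.mem_map_of_mem _ ha
  obtain ⟨x₀, hx₀, b₀, hb₀, hzeq⟩ := Submodule.mem_sup.1 (hline _ hmz)
  obtain ⟨c, rfl⟩ := Ideal.mem_span_singleton'.1 hb₀
  obtain ⟨v, rfl⟩ : IsUnit c := IsLocalRing.notMem_maximalIdeal.1 fun hc =>
    hzf (hzeq ▸ add_mem hx₀ (hme c hc))
  refine ⟨mk z, hz', hmz', fun w' hw' => ?_⟩
  obtain ⟨w, rfl⟩ := Ideal.Quotient.mk_surjective w'
  have hmw : ∀ a ∈ maximalIdeal A, a * (w * f) ∈ X := fun a ha => by
    rw [← mul_assoc, ← hmemX, map_mul]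
    refine hw' _ ?_
    rw [← map_maximalIdeal_of_surjective mk Ideal.Quotient.mk_surjective]
    exact Ideal.mem_map_of_mem _ ha
  obtain ⟨x₁, hx₁, b₁, hb₁, hweq⟩ := Submodule.mem_sup.1 (hline _ hmw)
  obtain ⟨d, rfl⟩ := Ideal.mem_span_singleton'.1 hb₁
  have key : (w - d * (↑v⁻¹ : A) * z) * f ∈ X := by
    have : (w - d * (↑v⁻¹ : A) * z) * f = x₁ - d * (↑v⁻¹ : A) * x₀ := by
      have hv : (↑v⁻¹ : A) * v = 1 := v.inv_mul
      linear_combination (d * (↑v⁻¹ : A)) * hzeq - hweq - (d * e) * hv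
    rw [this]
    exact sub_mem hx₁ (X.mul_mem_left _ hx₀)
  refine Submodule.mem_sup.2 ⟨_, (hmemX _).2 key, mk (d * (↑v⁻¹ : A) * z), ?_, ?_⟩
  · rw [map_mul]
    exact Ideal.mul_mem_left _ _ (Ideal.mem_span_singleton_self _)
  · rw [← map_add, sub_add_cancel]

/-- The basic computation for `I ∩ J = 0`: socle elements modulo `I + J` give socle elements modulo `y`. -/
theorem socle_shift {R : Type u} [CommRing R] {I J m : Ideal R} (hIJ : I ⊓ J = ⊥) {y b : R}
    (hy : y ∈ m) (hyI : IsSMulRegular (R ⧸ I) y) (hyJ : IsSMulRegular (R ⧸ J) y)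
    (hb : ∀ a ∈ m, a * b ∈ I ⊔ J) :
    ∃ c : R, c ∈ J ∧ y * b - c ∈ I ∧ (∀ a ∈ m, a * c ∈ Ideal.span {y}) ∧
      (c ∈ Ideal.span {y} → b ∈ I ⊔ J) := by
  have reg : ∀ {L : Ideal R}, IsSMulRegular (R ⧸ L) y → ∀ t, y * t ∈ L → t ∈ L := fun {L} h t ht => by
    have : y • (Ideal.Quotient.mk L t) = y • (0 : R ⧸ L) := by
      rw [smul_zero]; exact Ideal.Quotient.eq_zero_iff_mem.2 ht
    exact Ideal.Quotient.eq_zero_iff_mem.1 (h this)
  obtain ⟨i, hi, j, hj, hij⟩ := Submodule.mem_sup.1 (hb y hy)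
  refine ⟨j, hj, by rw [← hij]; simpa using hi, fun a ha => ?_, fun hjy => ?_⟩
  · obtain ⟨i', hi', j', hj', hij'⟩ := Submodule.mem_sup.1 (hb a ha)
    have h0 : a * j - y * j' = 0 := by
      have h1 : a * j - y * j' ∈ J := sub_mem (J.mul_mem_left a hj) (J.mul_mem_left y hj')
      have h2 : a * j - y * j' ∈ I := by
        rw [show a * j - y * j' = y * i' - a * i by linear_combination a * hij - y * hij']
        exact sub_mem (I.mul_mem_left y hi') (I.mul_mem_left a hi)
      have h3 : a * j - y * j' ∈ I ⊓ J := ⟨h2, h1⟩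
      rwa [hIJ, Submodule.mem_bot] at h3
    exact Ideal.mem_span_singleton'.2 ⟨j', by linear_combination (-1 : R) * h0⟩
  · obtain ⟨t, rfl⟩ := Ideal.mem_span_singleton'.1 hjy
    have h1 : t ∈ J := reg hyJ t (by rwa [mul_comm])
    have h2 : b - t ∈ I := reg hyI _ (by
      rw [show y * (b - t) = i by linear_combination (-1 : R) * hij]; exact hi)
    exact Submodule.mem_sup.2 ⟨b - t, h2, t, h1, sub_add_cancel _ _⟩

/-- If `I ∩ J = 0` with both quotients maximal Cohen–Macaulay and `dim A/(I+J) < dim A`, then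
`A/(I+J)` is Gorenstein of dimension `dim A - 1`. -/
theorem gorenstein_sup : ∀ (n : ℕ) (A : Type u) [CommRing A] [_root_.LocCoh.IsGorensteinLocalRing A],
    ringKrullDim A = n → ∀ I J : Ideal A, I ⊓ J = ⊥ → GorensteinLink.IsMaxCM I →
      GorensteinLink.IsMaxCM J → I ⊔ J ≠ ⊤ → ringKrullDim (A ⧸ (I ⊔ J)) + 1 ≤ n →
      _root_.LocCoh.IsGorensteinLocalRing (A ⧸ (I ⊔ J)) ∧ ringKrullDim (A ⧸ (I ⊔ J)) + 1 = n := by
  intro n
  induction n with
  | zero =>
    intro A _ _ _ I J _ _ _ hne hd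
    haveI : Nontrivial (A ⧸ (I ⊔ J)) := Ideal.Quotient.nontrivial_iff.2 hne
    have h1 : (0 : WithBot ℕ∞) + 1 ≤ 0 := le_trans (add_le_add ringKrullDim_nonneg_of_nontrivial le_rfl) hd
    rw [zero_add] at h1
    exact absurd h1 (not_le.2 zero_lt_one)
  | succ n ih =>
    intro A _ _ hn I J hIJ hI hJ hne hd
    haveI := isCohenMacaulayLocalRing_of_gorenstein (R := A)
    haveI : Nontrivial (A ⧸ (I ⊔ J)) := Ideal.Quotient.nontrivial_iff.2 hne
    haveI : IsLocalRing (A ⧸ (I ⊔ J)) := .of_surjective' _ Ideal.Quotient.mk_surjective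
    haveI := CAlgH3.nontrivial_of_cm hI.1
    haveI := CAlgH3.nontrivial_of_cm hJ.1
    have hdQ : ringKrullDim (A ⧸ (I ⊔ J)) ≤ n := by
      have hnn := ringKrullDim_nonneg_of_nontrivial (R := A ⧸ (I ⊔ J))
      generalize ringKrullDim (A ⧸ (I ⊔ J)) = d at hd hnn
      induction d using WithBot.recBotCoe with
      | bot => simp at hnn
      | coe d =>
        have : d + 1 ≤ ((n + 1 : ℕ) : ℕ∞) := by exact_mod_cast hd
        have h2 : d ≤ (n : ℕ∞) := by
          push_cast at this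
          exact WithTop.le_of_add_le_add_right ENat.one_ne_top this
        exact_mod_cast h2
    rcases Nat.eq_zero_or_pos n with rfl | hpos
    · -- dimension one
      obtain ⟨xs, hlen, hmem, hreg, hrad, -, hregI, -⟩ := exists_params hn I hI
      obtain ⟨y, rfl⟩ := List.length_eq_one_iff.1 hlen
      have hy : y ∈ maximalIdeal A := hmem y List.mem_cons_self
      have hregJ : IsWeaklyRegular (A ⧸ J) [y] := (GorensteinLink.main [y] J hJ hmem hreg (by
        rw [hJ.2, hn]
        calc ringKrullDim (A ⧸ (J ⊔ Ideal.ofList [y])) + _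
            ≤ 0 + (1 : ℕ) := add_le_add (dim_le_zero _ (hrad.trans (Ideal.radical_mono le_sup_right))) le_rfl
          _ = _ := zero_add _)).2.2.1
      have hyI : IsSMulRegular (A ⧸ I) y := ((isWeaklyRegular_cons_iff _ _ _).1 hregI).1
      have hyJ : IsSMulRegular (A ⧸ J) y := ((isWeaklyRegular_cons_iff _ _ _).1 hregJ).1
      obtain ⟨e, heX, hme, hline⟩ : IsSocleLine (Ideal.ofList [y]) :=
        (nonempty_socle_iff hlen hmem hreg hrad).1 ((gorenstein_iff_socle hn).1 inferInstance)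
      rw [Ideal.ofList_singleton] at hme hline
      have hdim : ringKrullDim (A ⧸ (I ⊔ J)) = ((0 : ℕ) : WithBot ℕ∞) :=
        le_antisymm hdQ (by simpa using ringKrullDim_nonneg_of_nontrivial (R := A ⧸ (I ⊔ J)))
      refine ⟨?_, by rw [hdim]; norm_cast⟩
      haveI := isCohenMacaulay_of_subsingleton_H (R := A ⧸ (I ⊔ J)) hdim (fun j hj => absurd hj (by omega))
      haveI : Ring.KrullDimLE 0 (A ⧸ (I ⊔ J)) := Ring.krullDimLE_iff.2 hdim.le
      refine (gorenstein_iff_socle hdim).2 ((nonempty_socle_iff (xs := []) rfl (by simp) (.nil _ _) ?_).2 ?_)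
      · rw [Ideal.ofList_nil]
        exact (Ring.KrullDimLE.nilradical_eq_maximalIdeal (R := A ⧸ (I ⊔ J))).ge
      let mk := Ideal.Quotient.mk (I ⊔ J)
      obtain ⟨z, hz, hmz⟩ := exists_socle (⊥ : Ideal (A ⧸ (I ⊔ J))) bot_ne_top
        (Ring.KrullDimLE.nilradical_eq_maximalIdeal (R := A ⧸ (I ⊔ J))).ge
      obtain ⟨b, rfl⟩ := Ideal.Quotient.mk_surjective z
      rw [Ideal.ofList_nil]
      refine ⟨mk b, hz, hmz, fun w' hw' => ?_⟩
      obtain ⟨w, rfl⟩ := Ideal.Quotient.mk_surjective w'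
      have conv : ∀ t : A, (∀ a ∈ maximalIdeal (A ⧸ (I ⊔ J)), a * mk t ∈ (⊥ : Ideal _)) →
          ∀ a ∈ maximalIdeal A, a * t ∈ I ⊔ J := fun t ht a ha => by
        rw [← Ideal.Quotient.eq_zero_iff_mem, map_mul]
        refine ht _ ?_
        rw [← map_maximalIdeal_of_surjective mk Ideal.Quotient.mk_surjective]
        exact Ideal.mem_map_of_mem _ ha
      obtain ⟨c₀, hc₀J, hc₀I, hc₀m, hc₀y⟩ := socle_shift hIJ hy hyI hyJ (conv b hmz)
      obtain ⟨c, hcJ, hcI, hcm, -⟩ := socle_shift hIJ hy hyI hyJ (conv w hw')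
      have hbQ : b ∉ I ⊔ J := fun h => hz (Ideal.Quotient.eq_zero_iff_mem.2 h)
      obtain ⟨x₀, hx₀, b₀, hb₀, heq₀⟩ := Submodule.mem_sup.1 (hline c₀ hc₀m)
      obtain ⟨μ, rfl⟩ := Ideal.mem_span_singleton'.1 hb₀
      obtain ⟨v, rfl⟩ : IsUnit μ := IsLocalRing.notMem_maximalIdeal.1 fun hμ =>
        hbQ (hc₀y (heq₀ ▸ add_mem hx₀ (hme μ hμ)))
      obtain ⟨x₁, hx₁, b₁, hb₁, heq₁⟩ := Submodule.mem_sup.1 (hline c hcm)
      obtain ⟨d, rfl⟩ := Ideal.mem_span_singleton'.1 hb₁
      have key : w - d * (↑v⁻¹ : A) * b ∈ I ⊔ J := by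
        have hC : c - d * (↑v⁻¹ : A) * c₀ ∈ Ideal.span {y} := by
          have hv : (↑v⁻¹ : A) * v = 1 := v.inv_mul
          rw [show c - d * (↑v⁻¹ : A) * c₀ = x₁ - d * (↑v⁻¹ : A) * x₀ by
            linear_combination (-1 : A) * heq₁ + (d * (↑v⁻¹ : A)) * heq₀ - (d * e) * hv]
          exact sub_mem hx₁ (Ideal.mul_mem_left _ _ hx₀)
        obtain ⟨t, ht⟩ := Ideal.mem_span_singleton'.1 hC
        have hCI : y * (w - d * (↑v⁻¹ : A) * b - t) ∈ I := by
          rw [show y * (w - d * (↑v⁻¹ : A) * b - t) =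
            (y * w - c) - d * (↑v⁻¹ : A) * (y * b - c₀) by linear_combination (-1 : A) * ht]
          exact sub_mem hcI (I.mul_mem_left _ hc₀I)
        have hCJ : y * t ∈ J := by
          rw [mul_comm, ht]
          exact sub_mem hcJ (J.mul_mem_left _ hc₀J)
        have h1 : t ∈ J := Ideal.Quotient.eq_zero_iff_mem.1 (hyJ (a₁ := Ideal.Quotient.mk J t) (a₂ := 0)
          (by beta_reduce; rw [smul_zero]; exact Ideal.Quotient.eq_zero_iff_mem.2 hCJ))
        have h2 : w - d * (↑v⁻¹ : A) * b - t ∈ I := Ideal.Quotient.eq_zero_iff_mem.1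
          (hyI (a₁ := Ideal.Quotient.mk I _) (a₂ := 0)
          (by beta_reduce; rw [smul_zero]; exact Ideal.Quotient.eq_zero_iff_mem.2 hCI))
        exact Submodule.mem_sup.2 ⟨_, h2, t, h1, sub_add_cancel _ _⟩
      refine Submodule.mem_sup.2 ⟨0, Submodule.zero_mem _, mk w, ?_, zero_add _⟩
      rw [show mk w = mk (d * (↑v⁻¹ : A)) * mk b by
        rw [← map_mul, Ideal.Quotient.eq]; exact key]
      exact Ideal.mul_mem_left _ _ (Ideal.mem_span_singleton_self _)
    · -- dimension at least two: cut by a general element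
      have hdA : (((n + 1 : ℕ) : ℕ∞)) = _root_.LocCoh.depth A A := by
        have h := depth_eq_dim (A := A)
        rw [hn] at h
        exact_mod_cast h
      have hdq : ∀ {L : Ideal A}, GorensteinLink.IsMaxCM L →
          ((n + 1 : ℕ) : ℕ∞) = _root_.LocCoh.depth A (A ⧸ L) := fun {L} hL => by
        have h := ((Module.supportDim_quotient_eq_ringKrullDim (R := A) L).symm.trans hL.1).symm.trans (hL.2.trans hn)
        exact_mod_cast h.symm
      have hone : (1 : ℕ∞) ≤ ((n + 1 : ℕ) : ℕ∞) := by exact_mod_cast Nat.succ_pos n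
      have hQ : maximalIdeal A ∉ associatedPrimes A (A ⧸ (I ⊔ J)) := by
        intro hass
        obtain ⟨hprime, z, hz⟩ := isAssociatedPrime_iff.1 hass
        obtain ⟨b, rfl⟩ := Ideal.Quotient.mk_surjective z
        have hmb : ∀ a, a ∈ maximalIdeal A ↔ a * b ∈ I ⊔ J := fun a => by
          rw [hz, Submodule.mem_colon_singleton, Submodule.mem_bot, ← Ideal.Quotient.eq_zero_iff_mem]
          exact Iff.rfl
        obtain ⟨y, hy, hyreg⟩ := CAlgH3.exists_regular_of_one_le_depth (R := A) (M := A × (A ⧸ I) × (A ⧸ J)) (by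
          rw [CAlgH3.depth_prod, CAlgH3.depth_prod, ← hdA, ← hdq hI, ← hdq hJ, min_self, min_self]
          exact hone)
        have hyA : IsSMulRegular A y := fun a b h =>
          congrArg Prod.fst (hyreg (a₁ := (a, (0 : A ⧸ I), (0 : A ⧸ J))) (a₂ := (b, 0, 0)) (Prod.ext h rfl))
        have hyI : IsSMulRegular (A ⧸ I) y := fun a b h =>
          congrArg (fun p => p.2.1) (hyreg (a₁ := ((0 : A), a, (0 : A ⧸ J))) (a₂ := (0, b, 0)) (Prod.ext rfl (Prod.ext h rfl)))
        have hyJ : IsSMulRegular (A ⧸ J) y := fun a b h =>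
          congrArg (fun p => p.2.2) (hyreg (a₁ := ((0 : A), (0 : A ⧸ I), a)) (a₂ := (0, 0, b)) (Prod.ext rfl (Prod.ext rfl h)))
        obtain ⟨c, -, -, hcm, hcy⟩ := socle_shift hIJ hy hyI hyJ (fun a ha => (hmb a).1 ha)
        have hd1 : (1 : ℕ∞) ≤ _root_.LocCoh.depth A (A ⧸ Ideal.span {y}) := by
          have h := CAlgH3.depth_quotSMulTop_add_one (M := A) hy hyA
          rw [CAlgH3.depth_congr (CAlgH3.quotSMulTopSelf y), ← hdA] at h
          refine CAlgH3.natCast_add_one_le_iff.1 (le_trans ?_ h.ge)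
          exact_mod_cast (by omega : 1 + 1 ≤ n + 1)
        haveI : Nontrivial (A ⧸ Ideal.span {y}) :=
          Ideal.Quotient.nontrivial_iff.2 (fun h => (maximalIdeal.isMaximal A).ne_top
            (top_le_iff.1 (h.ge.trans ((Ideal.span_singleton_le_iff_mem _).2 hy))))
        obtain ⟨w, hw, hwreg⟩ := CAlgH3.exists_regular_of_one_le_depth (R := A) hd1
        have hc : c ∈ Ideal.span {y} := Ideal.Quotient.eq_zero_iff_mem.1
          (hwreg (a₁ := Ideal.Quotient.mk _ c) (a₂ := 0) (by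
            beta_reduce; rw [smul_zero]; exact Ideal.Quotient.eq_zero_iff_mem.2 (hcm w hw)))
        exact hprime.ne_top ((Ideal.eq_top_iff_one _).2 ((hmb 1).2 (by rw [one_mul]; exact hcy hc)))
      obtain ⟨x, hx, hxreg⟩ := CAlgH3.exists_regular_of_one_le_depth (R := A)
        (M := A × (A ⧸ I) × (A ⧸ J) × (A ⧸ (I ⊔ J))) (by
          rw [CAlgH3.depth_prod, CAlgH3.depth_prod, CAlgH3.depth_prod, ← hdA, ← hdq hI, ← hdq hJ]
          exact le_min hone (le_min hone (le_min hone (CAlgH3.one_le_depth_iff.2 hQ))))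
      have hA : IsSMulRegular A x := fun a b h => congrArg Prod.fst
        (hxreg (a₁ := (a, (0 : A ⧸ I), (0 : A ⧸ J), (0 : A ⧸ (I ⊔ J)))) (a₂ := (b, 0, 0, 0)) (Prod.ext h rfl))
      have hxI : IsSMulRegular (A ⧸ I) x := fun a b h => congrArg (fun p => p.2.1)
        (hxreg (a₁ := ((0 : A), a, (0 : A ⧸ J), (0 : A ⧸ (I ⊔ J)))) (a₂ := (0, b, 0, 0)) (Prod.ext rfl (Prod.ext h rfl)))
      have hxJ : IsSMulRegular (A ⧸ J) x := fun a b h => congrArg (fun p => p.2.2.1)
        (hxreg (a₁ := ((0 : A), (0 : A ⧸ I), a, (0 : A ⧸ (I ⊔ J)))) (a₂ := (0, 0, b, 0))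
          (Prod.ext rfl (Prod.ext rfl (Prod.ext h rfl))))
      have hxQ : IsSMulRegular (A ⧸ (I ⊔ J)) x := fun a b h => congrArg (fun p => p.2.2.2)
        (hxreg (a₁ := ((0 : A), (0 : A ⧸ I), (0 : A ⧸ J), a)) (a₂ := (0, 0, 0, b))
          (Prod.ext rfl (Prod.ext rfl (Prod.ext rfl h))))
      haveI := GorensteinLink.gorenstein_quot hx hA
      obtain ⟨hI', -⟩ := GorensteinLink.isMaxCM_map I hI hx hA hxI
      obtain ⟨hJ', -⟩ := GorensteinLink.isMaxCM_map J hJ hx hA hxJ
      let mk := Ideal.Quotient.mk (Ideal.span {x})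
      have hd' : ringKrullDim (A ⧸ Ideal.span {x}) = n := CAlgH3.withBot_add_one_cancel (by
        rw [← Module.supportDim_quotient_eq_ringKrullDim, ← Module.supportDim_eq_of_equiv (CAlgH3.quotSMulTopSelf x),
          Module.supportDim_quotSMulTop_succ_eq_supportDim hA hx, Module.supportDim_self_eq_ringKrullDim, hn,
          Nat.cast_add, Nat.cast_one])
      have hinf : I.map mk ⊓ J.map mk = ⊥ := by
        rw [eq_bot_iff]
        rintro z' ⟨hzI, hzJ⟩
        obtain ⟨i, hi, rfl⟩ := (Ideal.mem_map_iff_of_surjective mk Ideal.Quotient.mk_surjective).1 hzI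
        obtain ⟨j, hj, hij⟩ := (Ideal.mem_map_iff_of_surjective mk Ideal.Quotient.mk_surjective).1 hzJ
        obtain ⟨w, hw⟩ := Ideal.mem_span_singleton'.1 (Ideal.Quotient.eq.1 hij.symm)
        have hwQ : w ∈ I ⊔ J := Ideal.Quotient.eq_zero_iff_mem.1
          (hxQ (a₁ := Ideal.Quotient.mk _ w) (a₂ := 0) (by
            beta_reduce
            rw [smul_zero]
            exact Ideal.Quotient.eq_zero_iff_mem.2 (by
              show x * w ∈ I ⊔ J
              rw [show x * w = i - j by linear_combination hw]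
              exact sub_mem (Ideal.mem_sup_left hi) (Ideal.mem_sup_right hj))))
        obtain ⟨i', hi', j', hj', rfl⟩ := Submodule.mem_sup.1 hwQ
        have hzero : i - x * i' = 0 := by
          have h1 : i - x * i' ∈ I ⊓ J := ⟨sub_mem hi (I.mul_mem_left x hi'), by
            rw [show i - x * i' = j + x * j' by linear_combination (-1 : A) * hw]
            exact add_mem hj (J.mul_mem_left x hj')⟩
          rwa [hIJ, Submodule.mem_bot] at h1
        rw [Submodule.mem_bot, Ideal.Quotient.eq_zero_iff_mem, Ideal.mem_span_singleton']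
        exact ⟨i', by linear_combination (-1 : A) * hzero⟩
      have hsup : I.map mk ⊔ J.map mk = (I ⊔ J).map mk := (Ideal.map_sup mk I J).symm
      haveI : IsLocalRing (A ⧸ Ideal.span {x}) := inferInstance
      have hne' : I.map mk ⊔ J.map mk ≠ ⊤ := by
        refine ne_top_of_le_ne_top (maximalIdeal.isMaximal _).ne_top ?_
        rw [hsup, ← map_maximalIdeal_of_surjective mk Ideal.Quotient.mk_surjective]
        exact Ideal.map_mono (le_maximalIdeal hne)
      let x' : A ⧸ (I ⊔ J) := Ideal.Quotient.mk (I ⊔ J) x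
      have hx' : x' ∈ maximalIdeal (A ⧸ (I ⊔ J)) := by
        rw [← map_maximalIdeal_of_surjective (Ideal.Quotient.mk (I ⊔ J)) Ideal.Quotient.mk_surjective]
        exact Ideal.mem_map_of_mem _ hx
      have hx'reg : IsSMulRegular (A ⧸ (I ⊔ J)) x' := hxQ
      let e : ((A ⧸ (I ⊔ J)) ⧸ Ideal.span {x'}) ≃+*
          (A ⧸ Ideal.span {x}) ⧸ (I.map mk ⊔ J.map mk) :=
        (((Ideal.quotEquivOfEq (by rw [Ideal.map_span, Set.image_singleton])).trans
          (DoubleQuot.quotQuotEquivQuotSup (I ⊔ J) (Ideal.span {x}))).trans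
            (GorensteinLink.quotEquiv (I ⊔ J)).toRingEquiv.symm).trans (Ideal.quotEquivOfEq hsup.symm)
      have hdQ' : ringKrullDim ((A ⧸ Ideal.span {x}) ⧸ (I.map mk ⊔ J.map mk)) + 1 =
          ringKrullDim (A ⧸ (I ⊔ J)) := by
        rw [← ringKrullDim_eq_of_ringEquiv e, ← Module.supportDim_quotient_eq_ringKrullDim,
          ← Module.supportDim_eq_of_equiv (CAlgH3.quotSMulTopSelf x'),
          Module.supportDim_quotSMulTop_succ_eq_supportDim hx'reg hx', Module.supportDim_self_eq_ringKrullDim]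
      obtain ⟨hG, hdim⟩ := ih _ hd' _ _ hinf hI' hJ' hne' (by rw [hdQ']; exact hdQ)
      haveI := SegreDim.gorensteinLocal_of_ringEquiv e.symm
      refine ⟨(gorenstein_quotient_iff hx' hx'reg).2 inferInstance, ?_⟩
      rw [← hdQ', hdim]
      push_cast
      rfl

end Groth.Agent.LinkH2
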