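import Groth.Agent.LinkH2.Local
import Groth.Agent.Liaison28.Unmixed
import Groth.Agent.InjMod14.Kosz.LciNear
import Groth.Agent.DualLib.GorFieldExt
import Groth.Agent.Disc12.Noether

/-!
# Linkage in Gorenstein rings and in polynomial rings
-/

set_option autoImplicit false
set_option linter.all false
set_option maxHeartbeats 1000000

universe u

open IsLocalRing RingTheory.Sequence
open Groth.Agent.CommAlg4
open scoped Pointwise

namespace Groth.Agent.LinkH2

local notation "CMR" => _root_.LocCoh.IsCohenMacaulayRing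
local notation "GorR" => _root_.LocCoh.IsGorensteinRing
local notation "Gor" => _root_.LocCoh.IsGorensteinLocalRing
local notation "CMLoc" => _root_.LocCoh.IsCohenMacaulayLocalRing

variable {A : Type u} [CommRing A]

theorem nonempty_quot_local (I p : Ideal A) [p.IsPrime] (hIp : I ≤ p) :
    ∃ (Q : Ideal (A ⧸ I)) (_ : Q.IsPrime), Nonempty
      ((Localization.AtPrime p ⧸ I.map (algebraMap A (Localization.AtPrime p))) ≃+* Localization.AtPrime Q) := by
  have hQ : (p.map (Ideal.Quotient.mk I)).IsPrime :=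
    Ideal.map_isPrime_of_surjective Ideal.Quotient.mk_surjective (by rwa [Ideal.mk_ker])
  refine ⟨p.map (Ideal.Quotient.mk I), hQ, ?_⟩
  have hp : (p.map (Ideal.Quotient.mk I)).comap (Ideal.Quotient.mk I) = p := by
    rw [Ideal.comap_map_of_surjective _ Ideal.Quotient.mk_surjective, ← RingHom.ker_eq_comap_bot, Ideal.mk_ker]
    exact sup_eq_left.2 hIp
  clear hIp
  generalize p.map (Ideal.Quotient.mk I) = Q at hQ hp ⊢
  subst hp
  exact DualLib.GorRing.nonempty_quot_atPrime I Q

theorem cmLoc_quot [CMR A] {I : Ideal A} (J p : Ideal A) [p.IsPrime] [CMR (A ⧸ J)] (hJp : J ≤ p) :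
    CMLoc (Localization.AtPrime p ⧸ J.map (algebraMap A (Localization.AtPrime p))) := by
  obtain ⟨Q, hQ, ⟨e⟩⟩ := nonempty_quot_local J p hJp
  haveI := _root_.LocCoh.IsCohenMacaulayRing.isCohenMacaulayLocalRing_localization (R := A ⧸ J) Q
  exact CAlgH3.isCohenMacaulayLocalRing_of_ringEquiv e.symm

theorem annihilator_map_loc [IsNoetherianRing A] (p : Ideal A) [p.IsPrime] (I : Ideal A) :
    Submodule.annihilator (I.map (algebraMap A (Localization.AtPrime p))) =
      (Submodule.annihilator I).map (algebraMap A (Localization.AtPrime p)) :=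
  Disc12.annihilator_map _ (RingHom.flat_algebraMap_iff.2 (IsLocalization.flat _ p.primeCompl)) I
    (IsNoetherian.noetherian I)

theorem map_ne_top {I p : Ideal A} [p.IsPrime] (h : I ≤ p) :
    I.map (algebraMap A (Localization.AtPrime p)) ≠ ⊤ :=
  ne_top_of_le_ne_top (maximalIdeal.isMaximal _).ne_top
    ((Ideal.map_mono h).trans Localization.AtPrime.map_eq_maximalIdeal.le)

theorem le_of_map_ne_top {I p : Ideal A} [p.IsPrime]
    (h : I.map (algebraMap A (Localization.AtPrime p)) ≠ ⊤) : I ≤ p := by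
  intro x hx
  by_contra hxp
  exact h (Ideal.eq_top_of_isUnit_mem _ (Ideal.mem_map_of_mem _ hx)
    (IsLocalization.map_units _ (⟨x, hxp⟩ : p.primeCompl)))

section Gorenstein

variable [GorR A]

/-- Linked ideals in a Gorenstein ring: maximal Cohen–Macaulay quotient in a localisation. -/
theorem isMaxCM_loc (I J p : Ideal A) [p.IsPrime] [CMR (A ⧸ I)] (hJI : Submodule.annihilator J = I)
    (hIp : I ≤ p) : GorensteinLink.IsMaxCM (I.map (algebraMap A (Localization.AtPrime p))) := by
  haveI := Liaison28.cm_of_gorenstein A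
  haveI := _root_.LocCoh.IsGorensteinRing.isGorensteinLocalRing_localization (A := A) p
  set g := algebraMap A (Localization.AtPrime p)
  have hne := map_ne_top (I := I) (p := p) hIp
  haveI : Nontrivial (Localization.AtPrime p ⧸ I.map g) := Ideal.Quotient.nontrivial_iff.2 hne
  haveI : IsLocalRing (Localization.AtPrime p ⧸ I.map g) := .of_surjective' _ Ideal.Quotient.mk_surjective
  haveI := cmLoc_quot (I := I) I p hIp
  refine ⟨(CAlgH3.isCohenMacaulayLocalRing_quotient_iff _).1 inferInstance, ?_⟩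
  have hann : Submodule.annihilator (J.map g) = I.map g := by rw [annihilator_map_loc, hJI]
  obtain ⟨z, hz, hz0⟩ : ∃ z ∈ J.map g, z ≠ 0 := by
    by_contra hall
    push Not at hall
    refine hne (hann ▸ ?_)
    rw [Ideal.eq_top_iff_one, Submodule.mem_annihilator]
    intro z hz
    rw [hall z hz, smul_zero]
  refine ringKrullDim_quot_eq _ z hz0 fun i hi => ?_
  rw [← hann, Submodule.mem_annihilator] at hi
  exact hi z hz

/-- Linked ideals in a Gorenstein ring: `A/I` Cohen–Macaulay implies `A/J` Cohen–Macaulay. -/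
theorem isCohenMacaulayRing_ann (I J : Ideal A) [CMR (A ⧸ I)] (hIJ : Submodule.annihilator I = J)
    (hJI : Submodule.annihilator J = I) : CMR (A ⧸ J) :=
  { (inferInstance : IsNoetherianRing (A ⧸ J)) with
    isCohenMacaulayLocalRing_localization := fun Q _ => by
      haveI := Liaison28.cm_of_gorenstein A
      obtain ⟨e⟩ := DualLib.GorRing.nonempty_quot_atPrime J Q
      let p := Q.comap (Ideal.Quotient.mk J)
      haveI := _root_.LocCoh.IsGorensteinRing.isGorensteinLocalRing_localization (A := A) p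
      set g := algebraMap A (Localization.AtPrime p)
      have hJp : J ≤ p := fun x hx => by
        rw [Ideal.mem_comap, Ideal.Quotient.eq_zero_iff_mem.2 hx]
        exact zero_mem _
      have hann : Submodule.annihilator (I.map g) = J.map g := by rw [annihilator_map_loc, hIJ]
      suffices h : CMLoc (Localization.AtPrime p ⧸ J.map g) from @CAlgH3.isCohenMacaulayLocalRing_of_ringEquiv _ _ _ _ e h
      by_cases hIp : I ≤ p
      · have h := (cm_ann _ (isMaxCM_loc I J p hJI hIp) (by rw [hann]; exact map_ne_top hJp)).1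
        rwa [hann] at h
      · have hI : I.map g = ⊤ := by
          by_contra h
          exact hIp (le_of_map_ne_top h)
        have hJ : J.map g = ⊥ := by
          rw [← hann, hI, eq_bot_iff]
          intro z hz
          simpa using (Submodule.mem_annihilator.1 hz 1 trivial)
        haveI := _root_.LocCoh.IsCohenMacaulayRing.isCohenMacaulayLocalRing_localization (R := A) p
        exact CAlgH3.isCohenMacaulayLocalRing_of_ringEquiv
          ((RingEquiv.quotientBot _).symm.trans (Ideal.quotEquivOfEq hJ.symm)) }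

/-- `A/ann f` is Gorenstein for a linked almost complete intersection. -/
theorem isGorensteinRing_ann_span (f : A) (J : Ideal A) [CMR (A ⧸ Ideal.span {f})]
    (hJ : Submodule.annihilator (Ideal.span {f}) = J)
    (hJI : Submodule.annihilator J = Ideal.span {f}) : GorR (A ⧸ J) :=
  { (inferInstance : IsNoetherianRing (A ⧸ J)) with
    isGorensteinLocalRing_localization := fun Q hQ => by
      obtain ⟨e⟩ := DualLib.GorRing.nonempty_quot_atPrime J Q
      let p := Q.comap (Ideal.Quotient.mk J)
      haveI := _root_.LocCoh.IsGorensteinRing.isGorensteinLocalRing_localization (A := A) p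
      set g := algebraMap A (Localization.AtPrime p)
      have hJp : J ≤ p := fun x hx => by
        rw [Ideal.mem_comap, Ideal.Quotient.eq_zero_iff_mem.2 hx]
        exact zero_mem _
      have hspan : (Ideal.span {f}).map g = Ideal.span {g f} := by rw [Ideal.map_span, Set.image_singleton]
      have hann : Submodule.annihilator (Ideal.span {g f}) = J.map g := by
        rw [← hspan, annihilator_map_loc, hJ]
      suffices h : Gor (Localization.AtPrime p ⧸ J.map g) from @SegreDim.gorensteinLocal_of_ringEquiv _ _ _ _ e h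
      by_cases hIp : Ideal.span {f} ≤ p
      · have hI := isMaxCM_loc (Ideal.span {f}) J p hJI hIp
        rw [hspan] at hI
        have h := gorenstein_ann_span (g f) hI (by rw [hann]; exact map_ne_top hJp)
        rwa [hann] at h
      · have hu : Ideal.span {g f} = ⊤ := by
          rw [← hspan]
          by_contra h
          exact hIp (le_of_map_ne_top h)
        have hJ0 : J.map g = ⊥ := by
          rw [← hann, hu, eq_bot_iff]
          intro z hz
          simpa using (Submodule.mem_annihilator.1 hz 1 trivial)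
        exact SegreDim.gorensteinLocal_of_ringEquiv
          ((RingEquiv.quotientBot _).symm.trans (Ideal.quotEquivOfEq hJ0.symm)) }

theorem map_inf_eq_bot {I J : Ideal A} (h : I ⊓ J = ⊥) (p : Ideal A) [p.IsPrime] :
    I.map (algebraMap A (Localization.AtPrime p)) ⊓ J.map (algebraMap A (Localization.AtPrime p)) = ⊥ := by
  rw [eq_bot_iff]
  rintro z ⟨hzI, hzJ⟩
  obtain ⟨⟨⟨i, hi⟩, s⟩, hs⟩ := (IsLocalization.mem_map_algebraMap_iff p.primeCompl _).1 hzI
  obtain ⟨⟨⟨j, hj⟩, t⟩, ht⟩ := (IsLocalization.mem_map_algebraMap_iff p.primeCompl _).1 hzJ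
  set g := algebraMap A (Localization.AtPrime p)
  dsimp only at hs ht
  have h1 : g (i * t) = g (j * s) := by
    rw [map_mul, map_mul, ← hs, ← ht]
    ring
  obtain ⟨u, hu⟩ := (IsLocalization.eq_iff_exists p.primeCompl _).1 h1
  have h2 : (u : A) * (i * t) = 0 := by
    have : (u : A) * (i * t) ∈ I ⊓ J := ⟨I.mul_mem_left _ (I.mul_mem_right _ hi), by
      rw [hu]; exact J.mul_mem_left _ (J.mul_mem_right _ hj)⟩
    rwa [h, Submodule.mem_bot] at this
  have h3 : g i = 0 := by
    have := congrArg g h2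
    rw [map_mul, map_mul, map_zero] at this
    exact (IsLocalization.map_units (Localization.AtPrime p) t).mul_left_eq_zero.1
      ((IsLocalization.map_units (Localization.AtPrime p) u).mul_right_eq_zero.1 this)
  rw [h3] at hs
  exact (IsLocalization.map_units (Localization.AtPrime p) s).mul_left_eq_zero.1 hs

/-- Geometrically linked ideals: local statement at a prime containing `I + J`. -/
theorem gorenstein_sup_loc (I J p : Ideal A) [p.IsPrime] [CMR (A ⧸ I)] [CMR (A ⧸ J)]
    (hinf : I ⊓ J = ⊥) (hIJ : Submodule.annihilator I = J) (hJI : Submodule.annihilator J = I)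
    {a : A} (ha : a ∈ I ⊔ J) (hareg : IsSMulRegular A a) (hp : I ⊔ J ≤ p) :
    Gor (Localization.AtPrime p ⧸ (I ⊔ J).map (algebraMap A (Localization.AtPrime p))) ∧
      ringKrullDim (Localization.AtPrime p ⧸ (I ⊔ J).map (algebraMap A (Localization.AtPrime p))) + 1 =
        ringKrullDim (Localization.AtPrime p) := by
  haveI := _root_.LocCoh.IsGorensteinRing.isGorensteinLocalRing_localization (A := A) p
  set g := algebraMap A (Localization.AtPrime p) with hg
  obtain ⟨n, hn⟩ := LocCoh.exists_dim_eq (R := Localization.AtPrime p)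
  rw [Ideal.map_sup, hn]
  have hne : I.map g ⊔ J.map g ≠ ⊤ := by
    rw [← Ideal.map_sup]; exact map_ne_top hp
  have hga : g a ∈ I.map g ⊔ J.map g := by
    rw [← Ideal.map_sup]; exact Ideal.mem_map_of_mem _ ha
  have hgareg : IsSMulRegular (Localization.AtPrime p) (g a) := by
    haveI : Module.Flat A (Localization.AtPrime p) := IsLocalization.flat _ p.primeCompl
    intro x y h
    obtain ⟨⟨x', s⟩, hx⟩ := IsLocalization.surj p.primeCompl (x - y)
    have h1 : g a * (x - y) = 0 := by
      rw [mul_sub, sub_eq_zero]; exact h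
    have h2 : g (a * x') = 0 := by
      rw [map_mul, ← hx, ← mul_assoc, h1, zero_mul]
    obtain ⟨u, hu⟩ := (IsLocalization.map_eq_zero_iff p.primeCompl _ _).1 h2
    have h3 : (u : A) * x' = 0 := hareg (show a * ((u : A) * x') = a * 0 by rw [mul_zero, mul_left_comm]; exact hu)
    have h4 : g x' = 0 := (IsLocalization.map_eq_zero_iff p.primeCompl _ _).2 ⟨u, h3⟩
    rw [h4] at hx
    exact sub_eq_zero.1 ((IsLocalization.map_units (Localization.AtPrime p) s).mul_left_eq_zero.1 hx)
  refine gorenstein_sup n _ hn _ _ (map_inf_eq_bot hinf p) (isMaxCM_loc I J p hJI (le_sup_left.trans hp))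
    (isMaxCM_loc J I p hIJ (le_sup_right.trans hp)) hne ?_
  calc ringKrullDim (Localization.AtPrime p ⧸ (I.map g ⊔ J.map g)) + 1
      ≤ ringKrullDim (Localization.AtPrime p ⧸ Ideal.span {g a}) + 1 := add_le_add
        (ringKrullDim_le_of_surjective (Ideal.Quotient.factor ((Ideal.span_singleton_le_iff_mem _).2 hga))
          (Ideal.Quotient.factor_surjective _)) le_rfl
    _ = (n : ℕ) := by
      rw [← Module.supportDim_quotient_eq_ringKrullDim, ← Module.supportDim_eq_of_equiv (CAlgH3.quotSMulTopSelf (g a)),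
        Module.supportDim_quotSMulTop_succ_eq_supportDim hgareg (le_maximalIdeal hne hga),
        Module.supportDim_self_eq_ringKrullDim, hn]

theorem isGorensteinRing_sup (I J : Ideal A) [CMR (A ⧸ I)] [CMR (A ⧸ J)]
    (hinf : I ⊓ J = ⊥) (hIJ : Submodule.annihilator I = J) (hJI : Submodule.annihilator J = I)
    {a : A} (ha : a ∈ I ⊔ J) (hareg : IsSMulRegular A a) : GorR (A ⧸ (I ⊔ J)) :=
  { (inferInstance : IsNoetherianRing (A ⧸ (I ⊔ J))) with
    isGorensteinLocalRing_localization := fun Q _ => by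
      obtain ⟨e⟩ := DualLib.GorRing.nonempty_quot_atPrime (I ⊔ J) Q
      refine @SegreDim.gorensteinLocal_of_ringEquiv _ _ _ _ e ?_
      refine (gorenstein_sup_loc I J (Q.comap (Ideal.Quotient.mk (I ⊔ J))) hinf hIJ hJI ha hareg fun x hx => ?_).1
      rw [Ideal.mem_comap, Ideal.Quotient.eq_zero_iff_mem.2 hx]
      exact zero_mem _ }

theorem height_eq_one_of_minimal (I J p : Ideal A) [CMR (A ⧸ I)] [CMR (A ⧸ J)]
    (hinf : I ⊓ J = ⊥) (hIJ : Submodule.annihilator I = J) (hJI : Submodule.annihilator J = I)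
    {a : A} (ha : a ∈ I ⊔ J) (hareg : IsSMulRegular A a) (hp : p ∈ (I ⊔ J).minimalPrimes) :
    p.height = 1 := by
  haveI := hp.isPrime
  set g := algebraMap A (Localization.AtPrime p)
  obtain ⟨-, hdim⟩ := gorenstein_sup_loc I J p hinf hIJ hJI ha hareg hp.le
  have hrad : maximalIdeal (Localization.AtPrime p) ≤ ((I ⊔ J).map g).radical := by
    rw [Ideal.radical_eq_sInf]
    refine le_sInf ?_
    rintro P ⟨hP, hPprime⟩
    have h1 : P.comap g ≤ p := (IsLocalization.AtPrime.orderIsoOfPrime (Localization.AtPrime p) p ⟨P, hPprime⟩).2.2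
    have h2 : p ≤ P.comap g := hp.2 ⟨Ideal.comap_isPrime g P, Ideal.map_le_iff_le_comap.1 hP⟩ h1
    rw [← Localization.AtPrime.map_eq_maximalIdeal]
    exact Ideal.map_le_iff_le_comap.2 h2
  haveI : Nontrivial (Localization.AtPrime p ⧸ (I ⊔ J).map g) :=
    Ideal.Quotient.nontrivial_iff.2 (map_ne_top hp.le)
  rw [le_antisymm (dim_le_zero _ hrad) ringKrullDim_nonneg_of_nontrivial, zero_add,
    IsLocalization.AtPrime.ringKrullDim_eq_height p] at hdim
  exact_mod_cast hdim.symm

end Gorenstein

/-! ## Polynomial rings -/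

theorem le_colon_gen {R : Type u} [CommRing R] (c I : Ideal R) : c ≤ c.colon (I : Set R) := fun x hx => by
  rw [Submodule.mem_colon]
  exact fun i _ => c.mul_mem_right i hx

theorem annihilator_map_mk {R : Type u} [CommRing R] (c I : Ideal R) :
    Submodule.annihilator (I.map (Ideal.Quotient.mk c)) = (c.colon (I : Set R)).map (Ideal.Quotient.mk c) := by
  ext z
  obtain ⟨z, rfl⟩ := Ideal.Quotient.mk_surjective z
  rw [Submodule.mem_annihilator, Ideal.mem_quotient_iff_mem (le_colon_gen c I), Submodule.mem_colon]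
  refine ⟨fun h i hi => ?_, fun h w hw => ?_⟩
  · have h1 := h _ (Ideal.mem_map_of_mem (Ideal.Quotient.mk c) hi)
    rw [smul_eq_mul, ← map_mul, Ideal.Quotient.eq_zero_iff_mem] at h1
    exact h1
  · obtain ⟨i, hi, rfl⟩ := (Ideal.mem_map_iff_of_surjective _ Ideal.Quotient.mk_surjective).1 hw
    rw [smul_eq_mul, ← map_mul, Ideal.Quotient.eq_zero_iff_mem]
    exact h i hi

section Poly

open MvPolynomial

variable {K : Type u} [Field K] {n : ℕ}

local notation "S" => MvPolynomial (Fin (n + 1)) K

theorem cm_quot_map {c I : Ideal S} (hcI : c ≤ I) [CMR (S ⧸ I)] :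
    CMR ((S ⧸ c) ⧸ I.map (Ideal.Quotient.mk c)) :=
  CAlgH3.isCohenMacaulayRing_of_ringEquiv (DoubleQuot.quotQuotEquivQuotOfLE hcI).symm

/-- A complete intersection in a polynomial ring is Gorenstein. -/
theorem isGorensteinRing_ci {c : ℕ} (g : Fin c → S) (C : Ideal S) (hg : Ideal.span (Set.range g) = C)
    (hC : C.height = c) : GorR (S ⧸ C) := by
  have hR : GorR S := DualLib.GorRing.gorensteinRing_mvPolynomial (DualLib.GorRing.gorensteinRing_field K) (n + 1)
  haveI := hR
  haveI := Liaison28.cm_of_gorenstein S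
  refine DualLib.GorRing.gorensteinRing_quotient hR C fun q _ hq => ?_
  haveI := _root_.LocCoh.IsCohenMacaulayRing.isCohenMacaulayLocalRing_localization (R := S) q
  refine ⟨List.ofFn fun i => algebraMap S (Localization.AtPrime q) (g i),
    InjMod14.Kosz.isWeaklyRegular_of_le_height _ (fun i => ?_) ?_, ?_⟩
  · rw [← Localization.AtPrime.map_eq_maximalIdeal]
    exact Ideal.mem_map_of_mem _ (hq (hg ▸ Ideal.subset_span ⟨i, rfl⟩))
  · rw [Set.range_comp', ← Ideal.map_span, hg, Ideal.height_eq_inf_minimalPrimes]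
    refine le_iInf₂ fun P hP => ?_
    haveI := hP.isPrime
    rw [← IsLocalization.height_comap q.primeCompl P, ← hC]
    exact Ideal.height_mono (Ideal.map_le_iff_le_comap.1 hP.le)
  · rw [← hg, Ideal.map_span, Ideal.ofList]
    congr 1
    ext x
    simp

theorem constantCoeff_eq_zero {I : Ideal S} (hI : I.IsHomogeneous (GrSyz.stdGr K (Fin (n + 1))))
    (hne : I ≠ ⊤) {x : S} (hx : x ∈ I) : constantCoeff x = 0 := by
  by_contra h
  have h0 : weightedHomogeneousComponent (fun _ : Fin (n + 1) => (1 : ℤ)) 0 x ∈ I := by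
    have := hI (0 : ℤ) hx
    convert this using 1
    exact (weightedDecomposition.decompose'_apply K _ x 0).symm
  have h1 : weightedHomogeneousComponent (fun _ : Fin (n + 1) => (1 : ℤ)) 0 x ∈ GrSyz.stdGr K (Fin (n + 1)) 0 :=
    weightedHomogeneousComponent_isWeightedHomogeneous _ x
  rw [Liaison28.stdGr_zero, Submodule.mem_span_singleton] at h1
  obtain ⟨r, hr⟩ := h1
  rw [← hr, Algebra.smul_def, mul_one] at h0
  have hr' : r = constantCoeff x := by
    have h2 := congrArg constantCoeff hr
    simp only [coeff_weightedHomogeneousComponent, constantCoeff_eq] at h2 ⊢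
    simpa [constantCoeff_eq] using h2
  exact hne (Ideal.eq_top_of_isUnit_mem _ h0 ((isUnit_iff_ne_zero.2 (hr' ▸ h)).map _))

theorem sup_ne_top {I J : Ideal S} (hI : I.IsHomogeneous (GrSyz.stdGr K (Fin (n + 1))))
    (hJ : J.IsHomogeneous (GrSyz.stdGr K (Fin (n + 1)))) (hI' : I ≠ ⊤) (hJ' : J ≠ ⊤) : I ⊔ J ≠ ⊤ := by
  intro h
  obtain ⟨x, hx, y, hy, hxy⟩ := Submodule.mem_sup.1 ((Ideal.eq_top_iff_one _).1 h)
  have := congrArg constantCoeff hxy
  rw [map_add, constantCoeff_eq_zero hI hI' hx, constantCoeff_eq_zero hJ hJ' hy, map_one, add_zero] at this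
  exact zero_ne_one this

theorem exists_mem_regular {I J : Ideal S} (hJ : J.IsHomogeneous (GrSyz.stdGr K (Fin (n + 1))))
    [CMR (S ⧸ J)] {c : ℕ} (hIc : I.height = c) (hJc : J.height = c)
    (hdisj : Disjoint I.minimalPrimes J.minimalPrimes) :
    ∃ a ∈ I, ∀ z : S, z * a ∈ J → z ∈ J := by
  by_contra hall
  push Not at hall
  have hsub : (I : Set S) ⊆ ⋃ q ∈ associatedPrimes S (S ⧸ J), (q : Set S) := fun a ha => by
    rw [biUnion_associatedPrimes_eq_zero_divisors]
    obtain ⟨z, hz, hzJ⟩ := hall a ha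
    refine ⟨Ideal.Quotient.mk J z, fun h => hzJ (Ideal.Quotient.eq_zero_iff_mem.1 h), ?_⟩
    show Ideal.Quotient.mk J (a * z) = 0
    rw [Ideal.Quotient.eq_zero_iff_mem, mul_comm]
    exact hz
  obtain ⟨q, hq, hIq⟩ := (Ideal.subset_union_prime_finite (associatedPrimes.finite S (S ⧸ J)) ⊥ ⊥
    (fun q hq _ _ => IsAssociatedPrime.isPrime hq)).1 hsub
  haveI := IsAssociatedPrime.isPrime hq
  have hmin := Liaison28.mem_minimalPrimes hJ hq
  exact Set.disjoint_left.1 hdisj (Ideal.mem_minimalPrimes_of_height_le hIq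
    (by rw [Liaison28.height_eq_height hJ hq, hJc, hIc])) hmin

theorem colon_inf_eq {I J : Ideal S} (h : ∃ a ∈ I, ∀ z : S, z * a ∈ J → z ∈ J) :
    (I ⊓ J).colon (I : Set S) = J := by
  obtain ⟨a, ha, hreg⟩ := h
  refine le_antisymm (fun z hz => hreg z ?_) fun z hz => ?_
  · exact (Submodule.mem_colon.1 hz a ha).2
  · rw [Submodule.mem_colon]
    exact fun i hi => ⟨I.mul_mem_left z hi, J.mul_mem_right i hz⟩

theorem height_sup_eq {I J : Ideal S}
    (hI : I.IsHomogeneous (GrSyz.stdGr K (Fin (n + 1)))) (hJ : J.IsHomogeneous (GrSyz.stdGr K (Fin (n + 1))))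
    [CMR (S ⧸ I)] [CMR (S ⧸ J)] [GorR (S ⧸ (I ⊓ J))] {c : ℕ} (hIc : I.height = c) (hJc : J.height = c)
    (hdisj : Disjoint I.minimalPrimes J.minimalPrimes) :
    (I ⊔ J).height = c + 1 ∧ GorR (S ⧸ (I ⊔ J)) := by
  set C := I ⊓ J with hC
  let mk := Ideal.Quotient.mk C
  have hCI : C ≤ I := inf_le_left
  have hCJ : C ≤ J := inf_le_right
  haveI := cm_quot_map hCI
  haveI := cm_quot_map hCJ
  have e1 := exists_mem_regular hJ hIc hJc hdisj
  have e2 := exists_mem_regular hI hJc hIc hdisj.symm
  have hann1 : Submodule.annihilator (I.map mk) = J.map mk := by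
    rw [annihilator_map_mk, colon_inf_eq e1]
  have hann2 : Submodule.annihilator (J.map mk) = I.map mk := by
    have h : C.colon (J : Set S) = I := by
      rw [show C = J ⊓ I from inf_comm _ _]; exact colon_inf_eq e2
    rw [annihilator_map_mk, h]
  have hinf : I.map mk ⊓ J.map mk = ⊥ := by
    rw [eq_bot_iff]
    rintro z ⟨hzI, hzJ⟩
    obtain ⟨z, rfl⟩ := Ideal.Quotient.mk_surjective z
    exact Ideal.Quotient.eq_zero_iff_mem.2
      ⟨(Ideal.mem_quotient_iff_mem hCI).1 hzI, (Ideal.mem_quotient_iff_mem hCJ).1 hzJ⟩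
  obtain ⟨a, haI, ha⟩ := e1
  obtain ⟨b, hbJ, hb⟩ := e2
  have hab : mk (a + b) ∈ I.map mk ⊔ J.map mk := by
    rw [map_add]
    exact add_mem (Ideal.mem_sup_left (Ideal.mem_map_of_mem _ haI)) (Ideal.mem_sup_right (Ideal.mem_map_of_mem _ hbJ))
  have hreg : IsSMulRegular (S ⧸ C) (mk (a + b)) := by
    intro x y h
    obtain ⟨x, rfl⟩ := Ideal.Quotient.mk_surjective x
    obtain ⟨y, rfl⟩ := Ideal.Quotient.mk_surjective y
    change mk ((a + b) * x) = mk ((a + b) * y) at h
    rw [Ideal.Quotient.eq, ← mul_sub] at h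
    rw [Ideal.Quotient.eq]
    refine ⟨hb _ ?_, ha _ ?_⟩
    · have := sub_mem h.1 (I.mul_mem_right (x - y) haI)
      rwa [show (a + b) * (x - y) - a * (x - y) = (x - y) * b by ring] at this
    · have := sub_mem h.2 (J.mul_mem_right (x - y) hbJ)
      rwa [show (a + b) * (x - y) - b * (x - y) = (x - y) * a by ring] at this
  have hsup : (I ⊔ J).map mk = I.map mk ⊔ J.map mk := Ideal.map_sup mk I J
  have hCs : C ≤ I ⊔ J := hCI.trans le_sup_left
  constructor
  swap
  · haveI := isGorensteinRing_sup (I.map mk) (J.map mk) hinf hann1 hann2 hab hreg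
    exact SegreDim.gorensteinRing_of_ringEquiv (R := (S ⧸ C) ⧸ (I.map mk ⊔ J.map mk))
      ((Ideal.quotEquivOfEq hsup.symm).trans (DoubleQuot.quotQuotEquivQuotOfLE hCs))
  have hItop : I ≠ ⊤ := fun h => by rw [h, Ideal.height_top] at hIc; exact ENat.coe_ne_top c hIc.symm
  have hJtop : J ≠ ⊤ := fun h => by rw [h, Ideal.height_top] at hJc; exact ENat.coe_ne_top c hJc.symm
  obtain ⟨m, hm, hle⟩ := Ideal.exists_le_maximal _ (sup_ne_top hI hJ hItop hJtop)
  haveI := hm.isPrime
  obtain ⟨p, hp, -⟩ := Ideal.exists_minimalPrimes_le hle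
  haveI := hp.isPrime
  have hlower : ∀ r : Ideal S, r ∈ (I ⊔ J).minimalPrimes → (c : ℕ∞) + 1 ≤ r.height := fun r hr => by
    haveI := hr.isPrime
    obtain ⟨q, hq, hqr⟩ := Ideal.exists_minimalPrimes_le (le_sup_left.trans hr.le : I ≤ r)
    haveI := hq.isPrime
    have hne' : q ≠ r := fun h => by
      subst h
      exact Set.disjoint_left.1 hdisj hq (Ideal.mem_minimalPrimes_of_height_le (le_sup_right.trans hr.le)
        (by rw [Liaison28.height_eq_height hI (Liaison28.mem_associatedPrimes_of_minimal hq), hIc, hJc]))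
    calc (c : ℕ∞) + 1 ≤ q.height + 1 := add_le_add (hIc ▸ Ideal.height_mono hq.le) le_rfl
      _ ≤ r.height := Ideal.height_add_one_le_of_lt_of_isPrime (lt_of_le_of_ne hqr hne')
  refine le_antisymm ((Ideal.height_mono hp.le).trans ?_) (by
    rw [Ideal.height_eq_inf_minimalPrimes]; exact le_iInf₂ hlower)
  obtain ⟨q, hq, hqp⟩ := Ideal.exists_minimalPrimes_le (le_sup_left.trans hp.le : I ≤ p)
  haveI := hq.isPrime
  have hCp : C ≤ p := hCs.trans hp.le
  have hCq : C ≤ q := hCI.trans hq.le
  haveI hpA : (p.map mk).IsPrime :=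
    Ideal.map_isPrime_of_surjective Ideal.Quotient.mk_surjective (by rwa [Ideal.mk_ker])
  have hmin : p.map mk ∈ (I.map mk ⊔ J.map mk).minimalPrimes := by
    rw [← hsup]
    refine ⟨⟨hpA, Ideal.map_mono hp.le⟩, fun P hP hPp => ?_⟩
    haveI := hP.1
    have h1 : P.comap mk ≤ p := fun x hx => (Ideal.mem_quotient_iff_mem hCp).1 (hPp hx)
    rw [Ideal.map_le_iff_le_comap]
    exact hp.2 ⟨Ideal.comap_isPrime mk P, Ideal.map_le_iff_le_comap.1 hP.2⟩ h1
  have hone := height_eq_one_of_minimal _ _ _ hinf hann1 hann2 hab hreg hmin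
  let P := p.map (Ideal.Quotient.mk q)
  haveI : P.IsPrime := Ideal.map_isPrime_of_surjective Ideal.Quotient.mk_surjective (by rwa [Ideal.mk_ker])
  have hP1 : P.height ≤ 1 := by
    rw [← hone]
    let φ : S ⧸ C →+* S ⧸ q := Ideal.Quotient.factor hCq
    have hcomap : P.comap φ = p.map mk := by
      ext z
      obtain ⟨z, rfl⟩ := Ideal.Quotient.mk_surjective z
      rw [Ideal.mem_comap, Ideal.Quotient.factor_mk, Ideal.mem_quotient_iff_mem hqp,
        Ideal.mem_quotient_iff_mem hCp]
    rw [← hcomap]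
    refine ((⟨P, inferInstance⟩ : PrimeSpectrum _).height_eq_orderHeight).le.trans
      (le_trans ?_ ((PrimeSpectrum.comap φ ⟨P, inferInstance⟩).height_eq_orderHeight).ge)
    exact Order.height_le_height_apply_of_strictMono (PrimeSpectrum.comap φ)
      (Monotone.strictMono_of_injective (fun a b h => Ideal.comap_mono h)
        (PrimeSpectrum.comap_injective_of_surjective φ (Ideal.Quotient.factor_surjective hCq))) ⟨P, inferInstance⟩
  have e1' := DimLib.height_add_ringKrullDim_quotient (k := K) P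
  rw [ringKrullDim_eq_of_ringEquiv (DoubleQuot.quotQuotEquivQuotOfLE hqp)] at e1'
  have e2' := DimLib.height_add_ringKrullDim_quotient (k := K) p
  have e3' := DimLib.height_add_ringKrullDim_quotient (k := K) q
  rw [MvPolynomial.ringKrullDim_of_isNoetherianRing, ringKrullDim_eq_zero_of_field, zero_add, Nat.card_fin] at e2' e3'
  rw [← e1'] at e3'
  obtain ⟨b', hb'⟩ := ENat.ne_top_iff_exists.1 (Ideal.height_ne_top_of_isPrime (I := p))
  obtain ⟨a', ha'⟩ := ENat.ne_top_iff_exists.1 (ne_top_of_le_ne_top (ENat.coe_ne_top 1) hP1)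
  have hqh : q.height = c := by
    rw [Liaison28.height_eq_height hI (Liaison28.mem_associatedPrimes_of_minimal hq), hIc]
  rw [← ha'] at hP1
  rw [← hb']
  change (q.height : WithBot ℕ∞) + ((P.height : WithBot ℕ∞) + _) = _ at e3'
  rw [hqh, ← ha'] at e3'
  rw [← hb'] at e2'
  generalize ringKrullDim (S ⧸ p) = d at e2' e3'
  induction d using WithBot.recBotCoe with
  | bot =>
    rw [WithBot.add_bot] at e2'
    exact absurd e2'.symm (WithBot.natCast_ne_bot _)
  | coe d =>
    induction d using ENat.recTopCoe with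
    | top =>
      rw [← WithBot.coe_add, add_top] at e2'
      exact absurd (WithBot.coe_inj.mp e2'.symm) (ENat.coe_ne_top _)
    | coe d =>
      have e4 : b' + d = n + 1 := by simpa [← WithBot.coe_add, ← Nat.cast_add] using! e2'
      have e5 : c + (a' + d) = n + 1 := by simpa [← WithBot.coe_add, ← Nat.cast_add] using! e3'
      have h1' : a' ≤ 1 := by exact_mod_cast hP1
      exact_mod_cast (show b' ≤ c + 1 by omega)

end Poly

end Groth.Agent.LinkH2
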